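import Cfsg.Agent.Lib.A9.P9
import Cfsg.Agent.Lib.A8.Main8

/-! The alternating group of degree six inside the one of degree nine. -/

set_option autoImplicit false
set_option synthInstance.maxSize 1024

namespace H58.N9

open Equiv Equiv.Perm H58.Cd H58.SE H40.Alt Subgroup

abbrev P6 := Perm (Fin 6)
abbrev A6 := alternatingGroup (Fin 6)

theorem carm_equiv {J : Type*} [Group J] (hJ : Nat.card J = 360) (y : Fin 4 → J)
    (h3 : ∀ i, y i ^ 3 = 1) (h2 : ∀ i j, i ≠ j → (y i * y j) ^ 2 = 1) (h1 : y 0 ≠ 1) :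
    ∃ e : AA (Fin 4) ≃* J, ∀ i, e (xa i) = y i := by
  obtain ⟨φ, hφ⟩ := carm_hom y h3 h2
  have : Finite J := Nat.finite_of_card_ne_zero (by omega)
  have : Nontrivial (Fin 4 ⊕ Bool) := ⟨⟨.inr true, .inr false, by simp⟩⟩
  exact ⟨MulEquiv.ofBijective φ ((Nat.bijective_iff_injective_and_card φ).2
    ⟨carm_inj (by simp) (hφ 0 ▸ h1), by rw [hJ, nat_card_alternatingGroup]; simp [Nat.factorial]⟩), hφ⟩

theorem card_A6 : Nat.card A6 = 360 := by rw [nat_card_alternatingGroup]; simp [Nat.factorial]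

theorem isConj_of_cube {α : Type*} [Fintype α] [DecidableEq α] {p q : Perm α} (hp : p ^ 3 = 1)
    (hq : q ^ 3 = 1) (h : p.support.card = q.support.card) : IsConj p q := by
  have h1 := cycleType_of_pow_prime_eq_one hp
  have h2 := cycleType_of_pow_prime_eq_one hq
  rw [← sum_cycleType, ← sum_cycleType, h1, h2, Multiset.sum_replicate, Multiset.sum_replicate,
    smul_eq_mul, smul_eq_mul] at h
  rw [isConj_iff_cycleType_eq, h1, h2]
  congr 1; omega

theorem cube_supp {n : ℕ} {p : Perm (Fin n)} (hp : p ^ 3 = 1) (h1 : p ≠ 1) :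
    ∃ k, p.support.card = k * 3 ∧ k ≠ 0 ∧ k * 3 ≤ n := by
  have h3 : p.support.card ≤ n := by simpa using p.support.card_le_univ
  have h4 : p.support.card ≠ 0 := by simpa using h1
  rw [← sum_cycleType, cycleType_of_pow_prime_eq_one hp, Multiset.sum_replicate, smul_eq_mul] at *
  exact ⟨_, rfl, by omega, h3⟩

/-- evenness, decided through the code -/
def evn {n : ℕ} (q : Perm (Fin n)) : Prop := sign q = 1

instance decEvn {n : ℕ} [Sm n] (q : Perm (Fin n)) : Decidable (evn q) :=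
  decidable_of_iff _ sign_eq_one.symm

theorem evn_iff {n : ℕ} [Sm n] {q : Perm (Fin n)} : evn q ↔ invs n (code q) % 2 = 0 := sign_eq_one

def d1 : P6 := swap 0 1 * swap 1 2
def d2 : P6 := swap 3 4 * swap 4 5
def ρ6 : P6 := swap 0 3 * swap 3 1 * swap 1 4 * swap 2 5
def xs6 : Fin 4 → P6 := ![d1, swap 0 1 * swap 1 3, swap 0 1 * swap 1 4, swap 0 1 * swap 1 5]
def ys6 : Fin 4 → P6 := ![d1 * d2, swap 0 2 * swap 2 4 * (swap 1 3 * swap 3 5),
  swap 0 3 * swap 3 1 * (swap 2 5 * swap 5 4), swap 0 4 * swap 4 3 * (swap 1 5 * swap 5 2)]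

theorem hx : ∀ i, evn (xs6 i) := by decide +kernel
theorem hy : ∀ i, evn (ys6 i) := by decide +kernel

theorem outer : ∃ ω : A6 ≃* A6, ∀ p : A6, (p : P6) = d1 * d2 → (ω p : P6) = d1 := by
  obtain ⟨e, he⟩ := carm_equiv card_A6 (fun i => ⟨xs6 i, hx i⟩)
    (by simp only [Subtype.ext_iff]; decide +kernel) (by simp only [Subtype.ext_iff]; decide +kernel)
    (by simp only [Ne, Subtype.ext_iff]; decide +kernel)
  obtain ⟨e', he'⟩ := carm_equiv card_A6 (fun i => ⟨ys6 i, hy i⟩)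
    (by simp only [Subtype.ext_iff]; decide +kernel) (by simp only [Subtype.ext_iff]; decide +kernel)
    (by simp only [Ne, Subtype.ext_iff]; decide +kernel)
  refine ⟨e'.symm.trans e, fun p hp => ?_⟩
  rw [show p = e' (xa 0) from (he' 0).symm ▸ Subtype.ext hp]
  simp [he, xs6]

theorem key6 {q : P6} (h : q * d1 = d1 * q) : q ^ 3 = 1 → q ≠ 1 → q ≠ d1 → q ≠ d1⁻¹ →
    (∀ k ∈ [ρ6, ρ6⁻¹], k * d1 * k⁻¹ ≠ d1 * q ∧ k * d1 * k⁻¹ ≠ d1 * q⁻¹) → q = d2 ∨ q = d2⁻¹ := by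
  simp only [List.mem_cons, List.not_mem_nil, or_false, forall_eq_or_imp, forall_eq]
  simp only [ne_eq, Cd.eq_iff (n := 6), code_mul, code_inv, code_pow]
  refine fc 6 _ (code q) ⟨d1, q, rfl, rfl, h⟩ ?_
  decide +kernel

/-- a pair of elements of order three -/
def Pr {J : Type*} [Group J] (p q : J) : Prop := p ^ 3 = 1 ∧ q ^ 3 = 1 ∧ q * p = p * q ∧ p ≠ 1 ∧ q ≠ 1 ∧ q ≠ p ∧
  q ≠ p⁻¹ ∧ ∀ k, k * p * k⁻¹ ≠ p * q ∧ k * p * k⁻¹ ≠ p * q⁻¹

theorem Pr.map {J J' : Type*} [Group J] [Group J'] {p q : J} (h : Pr p q) (α : J ≃* J') :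
    Pr (α p) (α q) := by
  unfold Pr
  rw [α.surjective.forall]
  simp only [← map_pow, ← map_mul, ← map_inv, ne_eq, EmbeddingLike.map_eq_one_iff,
    EmbeddingLike.apply_eq_iff_eq]
  exact h

theorem nrm6 {p q : A6} (h : Pr p q) : ∃ α : A6 ≃* A6, (α p : P6) = d1 ∧ (α q : P6) = d2 := by
  have k1 : ∀ p q : A6, Pr p q → (p : P6) = d1 →
      ∃ α : A6 ≃* A6, (α p : P6) = d1 ∧ (α q : P6) = d2 := by
    rintro ⟨p, hp⟩ ⟨q, hq⟩ ⟨-, h2, h3, -, h5, h6, h7, h8⟩ rfl
    simp only [ne_eq, Subtype.ext_iff] at h2 h3 h5 h6 h7 h8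
    rcases key6 h3 h2 h5 h6 h7 (fun k hk => h8 ⟨k, show evn k by revert k; decide +kernel⟩) with e | e
    · exact ⟨.refl _, rfl, e⟩
    · refine ⟨MulAut.conjNormal (swap (3 : Fin 6) 4), ?_⟩
      simp only [MulAut.conjNormal_apply, show q = d2⁻¹ from e]
      decide +kernel
  have k2 : ∀ r : P6, r ^ 3 = 1 → (p : P6).support.card = r.support.card →
      ∃ α : A6 ≃* A6, (α p : P6) = r := fun r hr e => by
    obtain ⟨k, hk⟩ := isConj_iff.1 (isConj_of_cube (congrArg Subtype.val h.1) hr e)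
    exact ⟨MulAut.conjNormal k, hk⟩
  obtain ⟨k, e, k3, k4⟩ := cube_supp (congrArg Subtype.val h.1) fun e => h.2.2.2.1 (Subtype.ext e)
  obtain ⟨α, hα⟩ : ∃ α : A6 ≃* A6, (α p : P6) = d1 := by
    rcases (show k = 1 ∨ k = 2 by omega) with rfl | rfl
    · exact k2 _ (by decide +kernel) (e.trans (by decide +kernel))
    · obtain ⟨α, hα⟩ := k2 (d1 * d2) (by decide +kernel) (e.trans (by decide +kernel))
      obtain ⟨ω, hω⟩ := outer
      exact ⟨α.trans ω, hω _ hα⟩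
  obtain ⟨β, hβ⟩ := k1 _ _ (h.map α) hα
  exact ⟨α.trans β, hβ⟩

def f69 : Fin 6 ≃ {i : Fin 9 // i.val < 6} := Fin.castLEquiv (by norm_num)

def ι6 : P6 →* P9 := extendDomainHom f69

theorem ι6_inj : Function.Injective ι6 := extendDomainHom_injective _

def K0 : Subgroup P9 := A6.map ι6

/-- membership in `K0` -/
def k0 (q : P9) : Prop := evn q ∧ q 6 = 6 ∧ q 7 = 7 ∧ q 8 = 8

instance decK0 (q : P9) : Decidable (k0 q) := by unfold k0; infer_instance

theorem k0_iff {q : P9} : k0 q ↔ invs 9 (code q) % 2 = 0 ∧ code q / 16777216 = 2166 := by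
  refine and_congr evn_iff ?_
  simp only [Fin.ext_iff, ← ap_code]
  have := pack_lt (n := 9) fun i _ => val_lt q i
  change code q < _ at this
  generalize code q = c at *
  simp only [ap]
  norm_num
  omega

theorem mem_K0 {q : P9} : q ∈ K0 ↔ k0 q := by
  constructor
  · rintro ⟨p, hp, rfl⟩
    exact ⟨(sign_extendDomain p f69).trans hp, extendDomain_apply_not_subtype _ _ (by decide),
      extendDomain_apply_not_subtype _ _ (by decide), extendDomain_apply_not_subtype _ _ (by decide)⟩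
  rintro ⟨h, h6, h7, h8⟩
  have h2 : ∀ x, q x ≠ x → x.val < 6 := fun x hx => by
    by_contra h
    have : x = 6 ∨ x = 7 ∨ x = 8 := by clear * - h; revert x; decide
    rcases this with rfl | rfl | rfl <;> contradiction
  have h1 : ∀ x, (q x).val < 6 ↔ x.val < 6 := fun x => by
    by_cases e : q x = x
    · rw [e]
    · exact iff_of_true (h2 _ fun e' => e (q.injective e')) (h2 _ e)
  have e : ι6 (f69.symm.permCongr (q.subtypePerm h1)) = q := by
    refine Eq.trans ?_ (ofSubtype_subtypePerm h1 h2)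
    change Perm.subtypeCongr (f69.permCongr (f69.permCongr.symm _)) _ = _
    rw [apply_symm_apply]; rfl
  exact ⟨_, ((sign_extendDomain _ f69).symm.trans (congrArg sign e)).trans h, e⟩

theorem card_K0 : Nat.card K0 = 360 := by
  rw [K0, card_map_of_injective ι6_inj, card_A6]

theorem gen6 {F : Subgroup P9} (y : Fin 4 → P9) (h0 : ∀ i, k0 (y i)) (h3 : ∀ i, y i ^ 3 = 1)
    (h2 : ∀ i j, i ≠ j → (y i * y j) ^ 2 = 1) (h1 : y 0 ≠ 1) (hF : ∀ i, y i ∈ F) : K0 ≤ F := by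
  obtain ⟨e, he⟩ := carm_equiv card_K0 (fun i => ⟨y i, mem_K0.2 (h0 i)⟩)
    (fun i => Subtype.ext (h3 i)) (fun i j h => Subtype.ext (h2 i j h)) fun e => h1 (congrArg Subtype.val e)
  intro q hq
  obtain ⟨p, hp⟩ := e.surjective ⟨q, hq⟩
  have : closure (Set.range (xa (ι := Fin 4))) ≤ F.comap (K0.subtype.comp e.toMonoidHom) :=
    (closure_le _).2 (by rintro _ ⟨i, rfl⟩; simpa [he] using hF i)
  simpa [hp] using this (show p ∈ _ by rw [closure_xa]; trivial)

variable {G : Type*} [Group G]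

theorem exists_mK {N : Subgroup G} (θ : N ≃* A6) {p q : N} (h : Pr p q) :
    ∃ m : PH P9 G, m.S = K0 ∧ m.range = N ∧ m.f e1 = p ∧ m.f e2 = q := by
  obtain ⟨α, h1, h2⟩ := nrm6 (h.map θ)
  let e := (θ.trans α).trans (A6.equivMapOfInjective ι6 ι6_inj)
  let m := PH.ofHom K0 (N.subtype.comp e.symm.toMonoidHom) (N.subtype_injective.comp e.symm.injective)
  have hm : ∀ n : N, m.f (ι6 (α (θ n))) = n := fun n =>
    (PH.ofHom_f K0 _ _ (e n).2).trans (congrArg Subtype.val (e.symm_apply_apply n))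
  refine ⟨m, rfl, le_antisymm ?_ fun g hg => m.mem_range.2 ⟨_, (e ⟨g, hg⟩).2, hm ⟨g, hg⟩⟩,
    ?_, ?_⟩
  · rintro _ ⟨k, rfl⟩
    have : m.f k = e.symm k := PH.ofHom_f K0 _ _ k.2
    change m.f k ∈ N
    exact this ▸ (e.symm k).2
  · rw [← hm, h1]; congr 1; decide +kernel
  · rw [← hm, h2]; congr 1; decide +kernel

end H58.N9
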