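import Cfsg.Agent.Lib.A9.Fus
import Cfsg.Agent.Lib.FGS.PLength
import Cfsg.Agent.S3341
import Cfsg.Agent.S3347

/-! The centralisers of the elements of `3³`. -/

set_option autoImplicit false
set_option synthInstance.maxSize 1024

namespace H58.N9

open Cfsg H53.Odd H58.SE Subgroup

variable {G : Type*} [Group G] [Finite G] {H : Subgroup G} {φ : M → G}

theorem s4 : ∀ w, act w (rep 2) = rep 2 → ∀ v, w = 0 ∨ (mul (v, w) (col 12)).2 = 0 := by
  decide +kernel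

theorem s5 : ∀ v, v + act (col 12).2 v = 0 ∨ v + act (col 12).2 v = rep 2 ∨
    v + act (col 12).2 v = -rep 2 := by decide +kernel

theorem s6 : ∀ w : V27, ∀ a, w ≠ 0 → w.2.2 = 0 → act a w = w → act a (rep 1) = rep 1 → a = 0 := by
  decide +kernel

theorem s7 : ∀ v w : V27, v ≠ 0 → v.2.2 = 0 → w.2.2 = 0 → ∃ i k : Fin 3,
    w = i.val • v + k.val • act (col 11).2 v := by decide +kernel

namespace Hn

variable (h : Hn H φ)
include h

omit [Finite G] in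
theorem act_eq {p : M} {u v : V27} : φ p * φ (u, 0) * (φ p)⁻¹ = φ (v, 0) ↔ act p.2 u = v := by
  rw [md_cj h.toMdl, h.inj.eq_iff, Prod.mk.injEq, and_iff_left rfl]

omit [Finite G] in
theorem act_comm {p : M} {u : V27} : φ p * φ (u, 0) = φ (u, 0) * φ p ↔ act p.2 u = u := by
  rw [← mul_inv_eq_iff_eq_mul, h.act_eq]

theorem exists_syl {u : V27} (hu : u ≠ 0) (h3 : kap u ≠ 3) {K Y : Subgroup G}
    (hK : Spl K (φ (u, 0))) (h1 : ∀ v, φ (v, 0) ∈ K → φ (v, 0) ∈ Y) (h2 : Y ≤ K) :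
    ∃ P : Sylow 3 Y, ∀ c : Y, c ∈ (P : Subgroup Y) ↔ (c : G) ∈ Jh h.toMdl := by
  obtain ⟨P, hP⟩ := ((pg_Jh h.toMdl).comap_subtype (K := Y)).exists_le_sylow
  have hC := ((map_subtype_le (P : Subgroup Y)).trans h2).trans hK.le
  refine ⟨P, fun c => ⟨fun hc => h.inJ hu h3 ((P.isPGroup'.map Y.subtype).to_sup_of_normal_right'
    (H9.isPGroup_zpowers_of_pow (a := 1) (by simpa using md_cube h.toMdl u)) ?_) (fun v => ?_)
    (sup_le hC (zpowers_le.2 (mem_centralizer_singleton_iff.2 rfl)))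
    (mem_sup_left ⟨c, hc, rfl⟩), fun hc => hP hc⟩⟩
  · refine fun g hg => mem_normalizer_of_le ?_
    rintro _ ⟨k, rfl⟩
    rw [← conj_zpow, mem_centralizer_singleton_iff.1 (hC hg), mul_inv_cancel_right]
    exact ⟨k, rfl⟩
  · obtain ⟨i, hi⟩ := hK.dec _ (md_JJ h.toMdl v u)
    obtain ⟨w, hw⟩ : φ (v, 0) * φ (u, 0) ^ i ∈ Jh h.toMdl := mul_mem (J_mem _ v) (pow_mem (J_mem _ u) i)
    rw [show φ (v, 0) = φ (w, 0) * (φ (u, 0) ^ i)⁻¹ by rw [hw]; simp]
    exact mul_mem_sup ⟨⟨_, h1 w (hw ▸ hi)⟩, hP ⟨w, rfl⟩, rfl⟩ (inv_mem (pow_mem (mem_zpowers _) i))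

omit [Finite G] in
theorem nK {u : V27} {K : Subgroup G} (hK : Spl K (φ (u, 0))) {g : G}
    (hg : g * φ (u, 0) = φ (u, 0) * g) (hn : ∀ v, φ (v, 0) ∈ K → g * φ (v, 0) * g⁻¹ ∈ H) : g ∈ H := by
  refine h.hN g fun v => ?_
  obtain ⟨i, hi⟩ := hK.dec _ (md_JJ h.toMdl v u)
  obtain ⟨w, hw⟩ : φ (v, 0) * φ (u, 0) ^ i ∈ Jh h.toMdl := mul_mem (J_mem _ v) (pow_mem (J_mem _ u) i)
  have := hn w (hw ▸ hi)
  rw [hw, ← conj_mul, ← conj_pow, hg, mul_inv_cancel_right] at this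
  exact (mul_mem_cancel_right (pow_mem (md_mem h.toMdl _) i)).1 this

theorem cy {g : G} (hg : g * φ (rep 2, 0) = φ (rep 2, 0) * g) : g ∈ H := by
  have m := h.toMdl
  obtain ⟨K, hK⟩ := h.split (u := rep 2) (by decide) (by decide)
  obtain ⟨P, hP⟩ := h.exists_syl (by decide) (by decide) hK (fun _ => id) le_rfl
  have t2 : φ (col 12) ^ 2 = 1 := (md_pw1 m).2 (by decide +kernel)
  have tc : φ (col 12) * φ (rep 2, 0) = φ (rep 2, 0) * φ (col 12) := h.act_comm.2 (by decide +kernel)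
  let t : K := ⟨φ (col 12), hK.cop _ 2 tc t2 (by norm_num)⟩
  have inv : ∀ d ∈ (P : Subgroup K), t * d * t⁻¹ = d⁻¹ := by
    intro d hd
    obtain ⟨v, hv⟩ := (hP d).1 hd
    have e : ((d * (t * d * t⁻¹) : K) : G) = φ (v + act (col 12).2 v, 0) := by
      rw [md_add' m, ← md_cj m, hv]; rfl
    have e' := (d * (t * d * t⁻¹)).2
    rw [e] at e'
    refine eq_inv_of_mul_eq_one_right (Subtype.ext (e.trans ?_))
    rcases s5 v with e1 | e1 | e1 <;> rw [e1] at e' ⊢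
    · exact md_one m
    · exact absurd e' hK.nm
    · exact absurd (inv_mem_iff.1 (md_neg m _ ▸ e')) hK.nm
  have mK : ∀ v, act (col 12).2 v = -v → φ (v, 0) ∈ K := fun v hv => by
    have := hK.cm _ _ tc (md_JJ m v _)
    rwa [md_cj m, hv, ← md_neg m, ← md_add' m,
      show -v + -v = v by clear * -; revert v; decide] at this
  have nH : ∀ k : K, k ∈ normalizer ((P : Subgroup K) : Set K) → (k : G) ∈ H := fun k hk =>
    h.nK hK (hK.comm k.2) fun v hv =>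
      Jh_le m ((hP _).1 ((mem_normalizer_iff.1 hk ⟨_, hv⟩).1 ((hP _).2 ⟨v, rfl⟩)))
  have cP : ∀ k : K, (k : G) ∈ Jh m → k ∈ centralizer ((P : Subgroup K) : Set K) :=
    fun k hk d hd => Subtype.ext (Jh_comm m ((hP d).1 hd) hk)
  have c3 : ∀ d ∈ (P : Subgroup K), d ^ 3 = 1 := fun d hd => Subtype.ext (Jh_cube m ((hP d).1 hd))
  let d1 : K := ⟨_, mK (0, 0, 1) (by decide)⟩
  let d2 : K := ⟨_, mK (1, 1, 0) (by decide)⟩
  have m1 : d1 ∈ (P : Subgroup K) := (hP _).2 ⟨_, rfl⟩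
  have m2 : d2 ∈ (P : Subgroup K) := (hP _).2 ⟨_, rfl⟩
  have n1 : d1 ≠ 1 := fun e => md_ne m (by decide) (congrArg Subtype.val e)
  rcases Cfsg.Agent.S3347.result 3 (by norm_num) P
    ⟨⟨fun a b => Subtype.ext (Subtype.ext (Jh_comm m ((hP _).1 a.2) ((hP _).1 b.2)))⟩⟩ (fun hc => by
      obtain ⟨c, hc⟩ := hc.exists_zpow_surjective
      have key : ∀ d : (P : Subgroup K), d = 1 ∨ d = c ∨ d = c⁻¹ := fun d =>
        (mem_zpowers_three (Subtype.ext (c3 _ c.2))).1 (hc d)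
      have : (d2 : G) = 1 ∨ (d2 : G) = d1 ∨ (d2 : G) = (d1 : G)⁻¹ := by
        have e1 := key ⟨d1, m1⟩
        have e2 := key ⟨d2, m2⟩
        simp only [Subtype.ext_iff, ne_eq, OneMemClass.coe_one, InvMemClass.coe_inv] at e1 e2 n1
        generalize (d1 : G) = a at *
        generalize (d2 : G) = b at *
        rcases e1 with rfl | rfl | rfl <;> rcases e2 with rfl | rfl | rfl <;> simp at n1 ⊢
      simp only [d1, d2, ← md_neg m, ← md_one m, m.inj.eq_iff] at this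
      revert this; decide)
    (relIndex_eq_two_iff_exists_notMem_and.2 ⟨t, mem_normalizer_of_le fun d hd =>
      (inv d hd).symm ▸ inv_mem hd, fun hc => ne_inv_three (c3 _ m1) n1 (by
        rw [← inv d1 m1, ← hc d1 m1]; simp), fun b hb => by
      obtain ⟨⟨v, w⟩, hp⟩ := (m.mem _).1 (nH b hb)
      rcases s4 w (h.act_comm.1 (hp ▸ hK.comm b.2)) v with e | e
      · exact Or.inr (cP _ ⟨v, e ▸ hp⟩)
      · refine Or.inl (cP _ ⟨(mul (v, w) (col 12)).1, ?_⟩)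
        rw [← e, Prod.mk.eta, m.hom, hp]; rfl⟩) with hr | hr
  · refine absurd ((H4.pResidual_sup_sylow P).symm.trans (sup_eq_left.2 fun d hd => ?_)).symm hr
    have ht : t ∈ pResidual 3 K := H4.mem_pResidual_of_coprime
      ((show Nat.Coprime 2 3 by norm_num).coprime_dvd_left (orderOf_dvd_of_pow_eq_one (Subtype.ext t2)))
    have := mul_mem ht ((H4.pResidual_normal 3 K).conj_mem _ (inv_mem ht) d)
    rwa [← mul_assoc, ← mul_assoc, inv d hd, ← mul_inv_rev, ← inv_eq_sq (c3 d hd),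
      inv_inv] at this
  have h1 : H76.ups 3 K (2 * 0 + 1) = ⊥ := by
    rw [H76.ups_one, ← map_eq_bot_iff_of_injective _ K.subtype_injective]
    refine h.hO _ (show rep 2 ≠ 0 by decide) _ ((map_subtype_le _).trans hK.le)
      (by rw [card_subtype]; exact H1.coprime_card_pPrimeCore)
      (hK.norm (map_subtype_le _) fun k hk => mem_normalizer_of_le ?_)
    rintro _ ⟨n, hn, rfl⟩
    exact ⟨_, (inferInstance : (pPrimeCore 3 K).Normal).conj_mem n hn ⟨k, hk⟩, rfl⟩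
  have h2 := H76.relP_ups (p := 3) (G := K) 0
  have h3 := H76.relQ_ups (p := 3) (G := K) 1
  rw [h1, H76.relP_bot_iff] at h2
  rw [H76.pLengthLE_iff.1 hr] at h3
  obtain ⟨i, hi⟩ := hK.dec g hg
  refine (mul_mem_cancel_right (pow_mem (md_mem m (rep 2, 0)) i)).1 (nH ⟨_, hi⟩
    (mem_normalizer_of_le fun d hd => h2.le_sylow_of_normal P
      ((inferInstance : (H76.ups 3 K (2 * 0 + 2)).Normal).conj_mem _ ?_ _)))
  obtain ⟨n, hn, hn'⟩ := h3 d trivial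
  exact H76.mem_of_pow_mem_of_coprime hn hn' (by rw [c3 d hd]; exact one_mem _)

theorem cyz {u : V27} (hu : 2 ≤ kap u) {g : G} (hg : g * φ (u, 0) = φ (u, 0) * g) : g ∈ H := by
  obtain ⟨w, hw⟩ := t4 u
  have e := (md_cj h.toMdl (0, w) (rep (kap u))).trans (congrArg (fun v => φ (v, 0)) hw)
  have e1 : (φ (0, w))⁻¹ * g * (φ (0, w))⁻¹⁻¹ * φ (rep (kap u), 0) =
      φ (rep (kap u), 0) * ((φ (0, w))⁻¹ * g * (φ (0, w))⁻¹⁻¹) := by
    have := SE.conj_comm (g := (φ (0, w))⁻¹) hg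
    rw [← e] at this
    simpa [mul_assoc] using this
  have h3 : kap u = 2 ∨ kap u = 3 := by clear * - hu; revert u; decide
  have : (φ (0, w))⁻¹ * g * (φ (0, w))⁻¹⁻¹ ∈ H := by
    rcases h3 with h3 | h3 <;> rw [h3] at e1
    exacts [h.cy e1, h.cz e1]
  simpa [mul_assoc] using mul_mem (mul_mem (md_mem h.toMdl (0, w)) this) (inv_mem (md_mem h.toMdl (0, w)))

omit [Finite G] in
theorem mem_K {K : Subgroup G} (hK : Spl K (φ (rep 1, 0))) {v : V27} : φ (v, 0) ∈ K ↔ v.2.2 = 0 := by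
  have m := h.toMdl
  have key : ∀ v : V27, v.2.2 = 0 → φ (v, 0) ∈ K := fun v hv => by
    have := hK.cm _ _ (h.act_comm (p := col 10).2 (by decide +kernel)) (md_JJ m v _)
    rwa [md_cj m, ← md_neg m, ← md_add' m,
      show act (col 10).2 v + -v = v by clear * - hv; revert v; decide +kernel] at this
  refine ⟨fun hv => ?_, key v⟩
  have := mul_mem hv (key (-v.1, -v.2.1, 0) rfl)
  rw [← md_add' m] at this
  rcases (show v.2.2 = 0 ∨ v + (-v.1, -v.2.1, 0) = rep 1 ∨ v + (-v.1, -v.2.1, 0) = -rep 1 by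
    clear * -; revert v; decide +kernel) with e | e | e
  · exact e
  · exact absurd (e ▸ this) hK.nm
  · exact absurd (inv_mem_iff.1 (md_neg m _ ▸ e ▸ this)) hK.nm

theorem cK {w : V27} (hw : w ≠ 0) (h0 : w.2.2 = 0) {k : G} (h1 : k * φ (rep 1, 0) = φ (rep 1, 0) * k)
    (h2 : k * φ (w, 0) = φ (w, 0) * k) : k ∈ Jh h.toMdl := by
  obtain ⟨⟨v, a⟩, rfl⟩ := (h.mem k).1 (h.cyz (u := w + rep 1)
    (by clear * - hw h0; revert w; decide +kernel)
    (by rw [md_add' h.toMdl, ← mul_assoc, h2, mul_assoc, h1, mul_assoc]))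
  obtain rfl := s6 w a hw h0 (h.act_comm.1 h2) (h.act_comm.1 h1)
  exact J_mem _ v

theorem cx : (∀ g, g * φ (rep 1, 0) = φ (rep 1, 0) * g → g ∈ H) ∨ ∃ N : Subgroup G,
    Nonempty (N ≃* alternatingGroup (Fin 6)) ∧ (∀ n ∈ N, n * φ (rep 1, 0) = φ (rep 1, 0) * n) ∧
    (∀ p, act p.2 (rep 1) = rep 1 ∨ act p.2 (rep 1) = -rep 1 → ∀ n ∈ N, φ p * n * (φ p)⁻¹ ∈ N) ∧
    (∀ v, φ (v, 0) ∈ N ↔ v.2.2 = 0) ∧
    ∀ g, g * φ (rep 1, 0) = φ (rep 1, 0) * g → ∃ n ∈ N, n * g ∈ H := by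
  have m := h.toMdl
  rw [or_iff_not_imp_left]
  intro hcon
  obtain ⟨K, hK⟩ := h.split (u := rep 1) (by decide) (by decide)
  let N := closure {g | ∃ k, k * φ (rep 1, 0) = φ (rep 1, 0) * k ∧ ∃ v : V27, v.2.2 = 0 ∧
    k * φ (v, 0) * k⁻¹ = g}
  have gen : ∀ k v, k * φ (rep 1, 0) = φ (rep 1, 0) * k → v.2.2 = 0 → k * φ (v, 0) * k⁻¹ ∈ N :=
    fun k v hk hv => subset_closure ⟨k, hk, v, hv, rfl⟩
  have hNK : N ≤ K := (closure_le _).2 (by
    rintro _ ⟨k, hk, v, hv, rfl⟩; exact hK.conj hk ((h.mem_K hK).2 hv))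
  have hD : ∀ v, φ (v, 0) ∈ N ↔ v.2.2 = 0 := fun v =>
    ⟨fun hv => (h.mem_K hK).1 (hNK hv), fun hv => by simpa using gen 1 v (by simp) hv⟩
  have cj : ∀ g, (∀ k v, k * φ (rep 1, 0) = φ (rep 1, 0) * k → v.2.2 = 0 →
      g * (k * φ (v, 0) * k⁻¹) * g⁻¹ ∈ N) → ∀ n ∈ N, g * n * g⁻¹ ∈ N := fun g hg =>
    (closure_le (N.comap (MulAut.conj g).toMonoidHom)).2 (by
      rintro _ ⟨k, hk, v, hv, rfl⟩; exact hg k v hk hv)
  have hCN : centralizer {φ (rep 1, 0)} ≤ normalizer (N : Set G) := fun g hg =>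
    mem_normalizer_of_le (cj g fun k v hk hv => by
      have := gen (g * k) v (by
        rw [mul_assoc, hk, ← mul_assoc, mem_centralizer_singleton_iff.1 hg, mul_assoc]) hv
      simpa [mul_assoc] using this)
  obtain ⟨P, hP⟩ := h.exists_syl (by decide) (by decide) hK
    (fun v hv => (hD v).2 ((h.mem_K hK).1 hv)) hNK
  have syl : ∀ Q : Subgroup G, IsPGroup 3 Q → ∃ n ∈ N, ∀ q ∈ Q, q ∈ N → n * q * n⁻¹ ∈ Jh m :=
    fun Q hQ => by
      obtain ⟨n, hn⟩ := H9.exists_conj_mem_sylow P (hQ.comap_subtype (K := N))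
      exact ⟨n, n.2, fun q hq hq' => (hP _).1 (hn ⟨q, hq'⟩ hq)⟩
  have frat : ∀ g, g * φ (rep 1, 0) = φ (rep 1, 0) * g → ∃ n ∈ N, n * g ∈ H := fun g hg => by
    obtain ⟨n, hn, hn'⟩ := syl _ ((pg_Jh m).map (MulAut.conj g).toMonoidHom)
    refine ⟨n, hn, h.nK hK (by rw [mul_assoc, hg, ← mul_assoc, hK.comm (hNK hn), mul_assoc])
      fun v hv => Jh_le m ?_⟩
    simpa [mul_assoc] using hn' _ ⟨_, J_mem m v, rfl⟩ (gen g v hg ((h.mem_K hK).1 hv))
  have three : ∀ Y ≤ N, N ≤ normalizer (Y : Set G) → Y ≠ ⊥ →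
      ∃ v : V27, v ≠ 0 ∧ v.2.2 = 0 ∧ φ (v, 0) ∈ Y := fun Y hY hn h1 => by
    obtain ⟨y, hy⟩ := exists_prime_orderOf_dvd_card' (G := Y) 3 (by
      by_contra h3
      exact h1 (h.core (by decide) (hNK.trans hK.le) hCN hY hn
        ((Nat.Prime.coprime_iff_not_dvd (by norm_num)).2 h3).symm))
    obtain ⟨n, hn1, hn'⟩ := syl (zpowers (y : G)) (H9.isPGroup_zpowers_of_pow (a := 1) (by
      rw [pow_one, ← hy, ← Subgroup.orderOf_coe, pow_orderOf_eq_one]))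
    obtain ⟨v, hv⟩ := hn' _ (mem_zpowers _) (hY y.2)
    have := (mem_normalizer_iff.1 (hn hn1) _).1 y.2
    refine ⟨v, ?_, (hD v).1 (hY (hv ▸ this)), hv ▸ this⟩
    rintro rfl
    rw [show φ (0, 0) = 1 from md_one m, eq_comm, conj_eq_one_iff, OneMemClass.coe_eq_one] at hv
    simp [hv] at hy
  have span : ∀ (Y : Subgroup G) (v : V27), v ≠ 0 → v.2.2 = 0 → φ (v, 0) ∈ Y →
      φ (act (col 11).2 v, 0) ∈ Y → ∀ w : V27, w.2.2 = 0 → φ (w, 0) ∈ Y := by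
    intro Y v h1 h2 h3 h4 w hw
    obtain ⟨i, k, rfl⟩ := s7 v w h1 h2 hw
    rw [md_add' m, md_nsmul m, md_nsmul m]
    exact mul_mem (pow_mem h3 _) (pow_mem h4 _)
  have : Nontrivial N := ⟨⟨⟨_, (hD (1, 0, 0)).2 rfl⟩, 1, fun e =>
    md_ne m (by decide) (congrArg Subtype.val e)⟩⟩
  have : IsSimpleGroup N := ⟨fun M₀ hM₀ => by
    rw [or_iff_not_imp_left, ← map_eq_bot_iff_of_injective _ N.subtype_injective]
    intro h1
    have hn : N ≤ normalizer (M₀.map N.subtype : Set G) := fun n hn => mem_normalizer_of_le (by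
      rintro _ ⟨x, hx, rfl⟩; exact ⟨_, hM₀.conj_mem x hx ⟨n, hn⟩, rfl⟩)
    suffices N ≤ M₀.map N.subtype from eq_top_iff.2 fun x _ =>
      (mem_map_iff_mem N.subtype_injective).1 (this x.2)
    have hle := map_subtype_le M₀
    generalize M₀.map N.subtype = Y at *
    have rc : φ (col 11) * φ (rep 1, 0) = φ (rep 1, 0) * φ (col 11) := h.act_comm.2 (by decide +kernel)
    have hr := hCN (mem_centralizer_singleton_iff.2 rc)
    let Y' := Y.comap (MulAut.conj (φ (col 11))).toMonoidHom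
    have hY' : ∀ {g}, g ∈ Y' ↔ φ (col 11) * g * (φ (col 11))⁻¹ ∈ Y := Iff.rfl
    have hn' : ∀ n ∈ N, ∀ y ∈ Y', n * y * n⁻¹ ∈ Y' := fun n hn0 y hy => by
      have := (mem_normalizer_iff.1 (hn ((mem_normalizer_iff.1 hr n).1 hn0)) _).1 (hY'.1 hy)
      rw [hY']; simpa [mul_assoc] using this
    by_cases hX : Y ⊓ Y' = ⊥
    · exfalso
      obtain ⟨v, v1, v2, v3⟩ := three Y hle hn h1
      have key : ∀ y ∈ Y, ∀ y' ∈ Y', y * y' = y' * y := fun y hy y' hy' => by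
        have : y * y' * y⁻¹ * y'⁻¹ ∈ Y ⊓ Y' := ⟨by
          simpa [mul_assoc] using mul_mem hy ((mem_normalizer_iff.1 (hn
            ((mem_normalizer_iff.1 hr _).2 (hle (hY'.1 hy')))) _).1 (inv_mem hy)),
          Y'.mul_mem (hn' y (hle hy) y' hy') (Y'.inv_mem hy')⟩
        rwa [hX, mem_bot, mul_inv_eq_one, mul_inv_eq_iff_eq_mul] at this
      obtain ⟨w, w1, w2, rfl⟩ : ∃ w : V27, w ≠ 0 ∧ w.2.2 = 0 ∧ act (col 11).2 w = v := by
        clear * - v1 v2; revert v; decide +kernel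
      have w3 : φ (w, 0) ∈ Y' := by rwa [hY', md_cj m]
      have hNH : N ≤ H := fun n hn0 => h.nK hK (hK.comm (hNK hn0)) fun u hu =>
        span (H.comap (MulAut.conj n).toMonoidHom) w w1 w2
          (Jh_le m (h.cK v1 v2 (hK.comm (hNK (mul_mem (mul_mem hn0 ((hD w).2 w2)) (inv_mem hn0))))
            (key _ v3 _ (hn' n hn0 _ w3)).symm))
          (Jh_le m (h.cK w1 w2 (hK.comm (hNK (mul_mem (mul_mem hn0 (hle v3)) (inv_mem hn0))))
            (key _ ((mem_normalizer_iff.1 (hn hn0) _).1 v3) _ w3))) u ((h.mem_K hK).1 hu)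
      exact hcon fun g hg => h.nK hK hg fun u hu => hNH (gen g u hg ((h.mem_K hK).1 hu))
    obtain ⟨v, v1, v2, v3, v4⟩ := three _ (inf_le_left.trans hle) (fun n hn0 => mem_normalizer_of_le
      fun y hy => ⟨(mem_normalizer_iff.1 (hn hn0) _).1 hy.1, hn' n hn0 y hy.2⟩) hX
    refine (closure_le _).2 ?_
    rintro _ ⟨k, hk, w, hw, rfl⟩
    obtain ⟨n, hn0, hnk⟩ := frat k hk
    obtain ⟨u, hu⟩ := Jh_conj m hnk (J_mem m w)
    have e : n * (k * φ (w, 0) * k⁻¹) * n⁻¹ = φ (u, 0) := by rw [hu]; group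
    refine (mem_normalizer_iff.1 (hn hn0) _).2 (e ▸ span Y v v1 v2 v3 (md_cj m _ _ ▸ hY'.1 v4) u
      ((hD u).1 (e ▸ mul_mem (mul_mem hn0 (gen k w hk hw)) (inv_mem hn0))))⟩
  refine ⟨N, Cfsg.Agent.S3341.result P _ rfl
    ⟨⟨fun a b => Subtype.ext (Subtype.ext (Jh_comm m ((hP _).1 a.2) ((hP _).1 b.2)))⟩⟩
    (fun d hd => Subtype.ext (Jh_cube m ((hP d).1 hd))) ?_
    ⟨⟨_, (hD (1, 0, 0)).2 rfl⟩, ⟨_, (hD (1, 1, 0)).2 rfl⟩,
      orderOf_three (Subtype.ext (md_cube m _)) fun e => md_ne m (by decide) (congrArg Subtype.val e),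
      orderOf_three (Subtype.ext (md_cube m _)) fun e => md_ne m (by decide) (congrArg Subtype.val e),
      fun g e => absurd (h.kap_eq (congrArg Subtype.val e)) (by decide)⟩ fun s hs s1 => ?_,
    fun n hn => hK.comm (hNK hn), fun p hp => cj _ fun k v hk hv => ?_, hD, frat⟩
  · rw [← Nat.card_congr (Equiv.ofBijective (fun u : ZMod 3 × ZMod 3 =>
      (⟨⟨_, (hD (u.1, u.2, 0)).2 rfl⟩, (hP _).2 (J_mem m _)⟩ : (P : Subgroup N)))
      ⟨fun u v e => ?_, fun ⟨d, hd⟩ => ?_⟩)]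
    · simp
    · simpa [Prod.ext_iff] using m.inj (congrArg (·.1.1) e)
    · obtain ⟨v, hv⟩ := (hP d).1 hd
      refine ⟨(v.1, v.2.1), Subtype.ext (Subtype.ext ?_)⟩
      change φ _ = _
      rw [← hv, ← (hD v).1 (hv ▸ d.2)]
  · obtain ⟨w, hw⟩ := (hP s).1 hs
    ext k
    rw [mem_centralizer_singleton_iff, hP, Subtype.ext_iff]
    refine ⟨fun e => h.cK (w := w) ?_ ((hD w).1 (hw ▸ s.2)) (hK.comm (hNK k.2)) (hw ▸ e),
      fun hk => Jh_comm m hk ((hP s).1 hs)⟩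
    rintro rfl
    exact s1 (Subtype.ext (hw.symm.trans (md_one m)))
  · have := gen (φ p * k * (φ p)⁻¹) (act p.2 v) (by
      rcases hp with hp | hp
      · simpa [h.act_eq.2 hp] using SE.conj_comm (g := φ p) hk
      · have := SE.conj_comm (g := φ p) hk
        rw [h.act_eq.2 hp, md_neg m] at this
        exact (Commute.inv_right_iff.1 this).eq) (by
      clear * - hp hv; revert hp v; generalize p.2 = w; revert w; decide +kernel)
    rw [← md_cj m] at this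
    simpa [mul_assoc] using this

end Hn

end H58.N9
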