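import Cfsg.Agent.Lib.A9.Good

/-! The construction of a subgroup `A₉`. -/

set_option autoImplicit false
set_option synthInstance.maxSize 1024

namespace H58.N9

open Equiv Equiv.Perm H58.Cd H58.SE H53.Odd Subgroup

def omp : P9 := swap 3 4 * swap 7 8
def xl (j : Fin 4) : P9 := if j = 3 then e2 else e3 ^ j.val * (omp * vv 4) * (e3 ^ j.val)⁻¹
def rr : M := (0, (1, 1), 2, 1)

theorem s11 : ∀ p : M, ∃ i j k : Fin 4,
    p = mul (p.1, 0) (mul (mul (pw (col 11) i) (pw rr j)) (pw (col 11) k)) := by decide +kernel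

variable {G : Type*} [Group G] {H : Subgroup G} {φ : M → G} {m n : PH P9 G}

theorem Lc.ag' {e : P9} (l : Lc φ m e) (p : M) {q : P9} (h : pm p = q ∧ nz e q) : m.f q = φ p :=
  h.1 ▸ l.ag p (l.S.2 (h.1 ▸ h.2))

theorem memH (h : Mdl H mul φ) (l : Lc φ m e3) (l' : Lc φ n e1) {L : Subgroup G}
    (h3 : ∀ i, m.f (xk i) ∈ L) (h1 : ∀ j, n.f (xl j) ∈ L) : H ≤ L ∧ m.range ≤ L := by
  have j0 : ∀ q ∈ K0, q ∈ m.S ∧ m.f q ∈ L := fun q hq => by
    obtain ⟨r, hr, rfl⟩ := gen_xk (F := (L.comap m.hom).map m.S.subtype)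
      (fun i => ⟨⟨_, l.S.2 (by revert i; decide +kernel)⟩, h3 i, rfl⟩) hq
    exact ⟨r.2, hr⟩
  have k1 : ∀ p, k0 (pm p) → φ p ∈ L := fun p hp =>
    l.ag p (j0 _ (mem_K0.2 hp)).1 ▸ (j0 _ (mem_K0.2 hp)).2
  have k2 : ∀ w : List (Fin 4), (w.map xl).prod ∈ n.S ∧ n.f (w.map xl).prod ∈ L := fun w => by
    induction w with
    | nil => exact ⟨one_mem _, n.one ▸ one_mem _⟩
    | cons a w ih =>
      have : xl a ∈ n.S := l'.S.2 (by clear * -; revert a; decide +kernel)
      rw [List.map_cons, List.prod_cons, n.mul this ih.1]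
      exact ⟨mul_mem this ih.1, mul_mem (h1 a) ih.2⟩
  have k3 := (k2 [3, 0, 2, 3, 3, 1]).2
  have k4 := (k2 [0, 1, 2, 0, 1]).2
  rw [l'.ag' rr (by decide +kernel)] at k3
  rw [l'.ag' ((0, 0, 1), 0) (by decide +kernel)] at k4
  have hH : H ≤ L := fun g hg => by
    obtain ⟨p, rfl⟩ := (h.mem g).1 hg
    obtain ⟨i, j, k, e⟩ := s11 p
    have e' : p.1 = (p.1.1, p.1.2.1, 0) + p.1.2.2.val • (0, 0, 1) := by
      generalize p.1 = v; revert v; decide
    have k5 := k1 (col 11) (by decide +kernel)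
    rw [e, h.hom, h.hom, h.hom, ← md_pw h, ← md_pw h, ← md_pw h, e', md_add' h, md_nsmul h]
    exact mul_mem (mul_mem (k1 _ (by
      generalize p.1.1 = a; generalize p.1.2.1 = b; revert a b; decide +kernel))
      (pow_mem k4 _)) (mul_mem (mul_mem (pow_mem k5 _) (pow_mem k3 _)) (pow_mem k5 _))
  refine ⟨hH, ?_⟩
  rintro _ ⟨⟨q, hq⟩, rfl⟩
  obtain ⟨t, ht⟩ := dec3' (l.S.1 hq)
  have mt : pm (τ3 t) ∈ m.S := l.S.2 (by clear * -; revert t; decide +kernel)
  have := mul_mem (j0 _ ht).2 (hH (md_mem h (τ3 t)))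
  rwa [← l.ag _ mt, ← m.mul (j0 _ ht).1 mt, inv_mul_cancel_right] at this

variable [Finite G]

theorem Lc.bad (l : Lc φ m e3) (l' : Lc φ n e1) (h : Hn H φ)
    (hB : ∀ g, g * m.f a1 = m.f a1 * g → g * m.f u1 = m.f u1 * g → g ∈ m.range) : False := by
  have M := h.toMdl
  have ha : a1 ∈ m.S := l.S.2 (by decide +kernel)
  have hu : u1 ∈ m.S := l.S.2 (by decide +kernel)
  have hg : g1 ∈ m.S := l.S.2 (by decide +kernel)
  have hw : w1 ∈ m.S := l.S.2 (by decide +kernel)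
  have he : e3 ∈ m.S := l.S.2 (by decide +kernel)
  have hs : s0 ∈ m.S := l.S.2 (by decide +kernel)
  let R : Subgroup G := m.range ⊓ (centralizer {m.f a1} ⊓ centralizer {m.f g1})
  have hR : ∀ {g}, g ∈ R ↔ ∃ q ∈ m.S, q * a1 = a1 * q ∧ q * g1 = g1 * q ∧ m.f q = g := by
    intro g
    simp only [R, mem_inf, mem_centralizer_singleton_iff, m.mem_range]
    exact ⟨fun ⟨⟨q, hq, e⟩, b, c⟩ => ⟨q, hq, (m.comm_iff hq ha).1 (e ▸ b),
      (m.comm_iff hq hg).1 (e ▸ c), e⟩, fun ⟨q, hq, b, c, e⟩ =>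
        ⟨⟨q, hq, e⟩, e ▸ (m.comm_iff hq ha).2 b, e ▸ (m.comm_iff hq hg).2 c⟩⟩
  have mR : ∀ q, nz e3 q ∧ q * a1 = a1 * q ∧ q * g1 = g1 * q → m.f q ∈ R := fun q hq =>
    hR.2 ⟨q, l.S.2 hq.1, hq.2.1, hq.2.2, rfl⟩
  have cg : IsConj (m.f a1) (m.f g1) := by
    have k1 : (swap 2 4 * swap 4 3 : P9) ∈ m.S := l.S.2 (by decide +kernel)
    have k2 : a0 ∈ m.S := l.S.2 (by decide +kernel)
    refine (isConj_iff.2 ⟨_, (m.conj_iff k1 k2 ha).2 (by decide +kernel)⟩).symm.trans ?_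
    rw [l.ag' (col 10) (by decide +kernel), l.ag' ((0, 2, 0), (0, 1), 0, 0) (by decide +kernel)]
    exact M.conj_of ((1, 1, 0), (1, 0), 1, 0) (by decide +kernel)
  have typ : ∀ q ∈ m.S, q * a1 = a1 * q → q * g1 = g1 * q → q * q = 1 → q ≠ 1 →
      IsConj (m.f a1) (m.f q) ∧ q.support.card = 4 ∨
        IsConj (m.f s0) (m.f q) ∧ q.support.card = 8 ∧ q * e3 ≠ e3 * q := fun q hq b c d e => by
    obtain ⟨k, hk, hk'⟩ := (q4 b c (l.S.1 hq)).2.1 d e
    have mk : k ∈ m.S := l.S.2 (by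
      clear * - hk
      simp only [LL, List.mem_cons, List.not_mem_nil, or_false] at hk
      rcases hk with rfl | rfl | rfl | rfl | rfl | rfl | rfl | rfl <;> decide +kernel)
    have cj : ∀ r ∈ m.S, k * r = q * k → IsConj (m.f r) (m.f q) := fun r hr e =>
      isConj_iff.2 ⟨_, (m.conj_iff mk hr hq).2 (mul_inv_eq_iff_eq_mul.2 e)⟩
    exact hk'.imp (And.imp_left fun e => e.elim (cj _ ha) fun e => cg.trans (cj _ hg e))
      (And.imp_left (cj _ hs))
  have nc : ¬ IsConj (m.f a1) (m.f s0) := fun e => by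
    obtain ⟨g, e⟩ := isConj_iff.1 e
    exact l.not_conj h g (e.trans (l.ag' _ (by decide +kernel)))
  have img : ∀ s p, p ∈ m.S ∧ p * a1 = a1 * p ∧ p * g1 = g1 * p ∧ p * p = 1 ∧ p ≠ 1 →
      s * m.f p * s⁻¹ ∈ R → ∃ q ∈ m.S, q * a1 = a1 * q ∧ q * g1 = g1 * q ∧
      m.f q = s * m.f p * s⁻¹ ∧ q.support.card = p.support.card ∧
        (q.support.card = 8 → q * e3 ≠ e3 * q) := fun s p ⟨p1, p2, p3, p4, p5⟩ hp => by
    obtain ⟨q, hq, b, c, e⟩ := hR.1 hp
    have cj : IsConj (m.f p) (m.f q) := isConj_iff.2 ⟨s, e.symm⟩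
    refine ⟨q, hq, b, c, e, ?_⟩
    rcases typ p p1 p2 p3 p4 p5 with ⟨e1, e2⟩ | ⟨e1, e2, -⟩ <;>
      rcases typ q hq b c ((m.mul_eq_one_iff hq hq).1 (e ▸ conj_sq ((m.mul_eq_one_iff p1 p1).2 p4)))
        ((m.eq_one_iff hq).not.1 (e ▸ conj_ne_one ((m.eq_one_iff p1).not.2 p5))) with
        ⟨e3, e4⟩ | ⟨e3, e4, e5⟩
    · exact ⟨e4.trans e2.symm, by omega⟩
    · exact absurd ((e1.trans cj).trans e3.symm) nc
    · exact absurd ((e3.trans cj.symm).trans e1.symm) nc
    · exact ⟨e4.trans e2.symm, fun _ => e5⟩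
  have hR2 : IsPGroup 2 R := fun ⟨g, hg⟩ => by
    obtain ⟨q, hq, b, c, rfl⟩ := hR.1 hg
    refine ⟨2, Subtype.ext ((m.pow_eq_one_iff hq 4).2 ?_)⟩
    rw [show q ^ 4 = q * q * (q * q) by simp [pow_succ, mul_assoc]]
    rcases (q4 b c (l.S.1 hq)).1 with e | e <;> rw [e] <;> decide +kernel
  obtain ⟨P, hP⟩ := hR2.exists_le_sylow
  have hPR : (P : Subgroup G) = R := by
    by_contra hne
    obtain ⟨s, -, hs, hs'⟩ := H2.exists_mem_normalizer_not_mem P.isPGroup'.isNilpotent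
      (lt_of_le_of_ne hP (Ne.symm hne))
    have cj : ∀ {x}, x ∈ R → s * x * s⁻¹ ∈ R := fun hx => (mem_normalizer_iff.1 hs _).1 hx
    have c1 : s * m.f a1 * s⁻¹ = m.f a1 := by
      have k1 : u1 * w1 ∈ m.S := mul_mem hu hw
      obtain ⟨q, hq, b, c, e⟩ := hR.1 (cj (mR (u1 * w1) (by decide +kernel)))
      have e1 : s * m.f a1 * s⁻¹ = m.f (q * q) := by
        rw [m.mul hq hq, e, conj_mul, ← m.mul k1 k1]; congr 3; decide +kernel
      rcases (q4 b c (l.S.1 hq)).1 with e2 | e2 <;> rw [e2] at e1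
      · rw [m.one, conj_eq_one_iff, m.eq_one_iff ha] at e1
        exact absurd e1 (by decide +kernel)
      · exact e1
    have ne : ∀ p ∈ m.S, p ≠ a1 → m.f a1 ≠ s * m.f p * s⁻¹ := fun p hp h1 e =>
      h1 (m.inj hp ha (by simpa using e.symm.trans c1.symm))
    have c2 : s * m.f g1 * s⁻¹ = m.f g1 := by
      obtain ⟨q, hq, b, c, e, d, -⟩ := img s g1 ⟨hg, by decide +kernel⟩ (cj (mR _ (by decide +kernel)))
      have cm : ∀ r, nz e3 r ∧ r * a1 = a1 * r ∧ r * g1 = g1 * r → q * r = r * q := fun r hr => by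
        have := SE.conj_comm (g := s) (mem_centralizer_singleton_iff.1 ((mem_normalizer_iff.1 hs
          (s⁻¹ * m.f r * s)).2 (by simpa [mul_assoc] using mR r hr)).2.2)
        rw [← e, show s * (s⁻¹ * m.f r * s) * s⁻¹ = m.f r by group] at this
        exact ((m.comm_iff (l.S.2 hr.1) hq).1 this).symm
      rcases ((q4 b c (l.S.1 hq)).2.2 (d.trans (by decide +kernel))).1 (cm _ (by decide +kernel))
        (cm _ (by decide +kernel)) with rfl | rfl
      · exact absurd e (ne _ hg (by decide +kernel))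
      · exact e.symm
    obtain ⟨q, hq, b, c, e, d, -⟩ := img s u1 ⟨hu, by decide +kernel⟩ (cj (mR _ (by decide +kernel)))
    obtain ⟨r, hr, -, -, e', d', -⟩ := img s (u1 * g1) ⟨mul_mem hu hg, by decide +kernel⟩
      (cj (mR _ (by decide +kernel)))
    rw [m.mul hu hg, ← conj_mul, c2, ← e, ← m.mul hq hg, m.eq_iff hr (mul_mem hq hg)] at e'
    have x1 : s * m.f e3 * s⁻¹ * m.f a1 = m.f a1 * (s * m.f e3 * s⁻¹) := by
      nth_rewrite 1 [← c1]; nth_rewrite 2 [← c1]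
      exact SE.conj_comm ((m.comm_iff he ha).2 (by decide +kernel))
    have x2 : s * m.f e3 * s⁻¹ * m.f q = m.f q * (s * m.f e3 * s⁻¹) :=
      e ▸ SE.conj_comm ((m.comm_iff he hu).2 (by decide +kernel))
    refine hs' ⟨l.ufin s x1 (hB _ x1 ?_), mem_centralizer_singleton_iff.2 (mul_inv_eq_iff_eq_mul.1 c1),
      mem_centralizer_singleton_iff.2 (mul_inv_eq_iff_eq_mul.1 c2)⟩
    rcases ((q4 b c (l.S.1 hq)).2.2 (d.trans (by decide +kernel))).2
      (e' ▸ d'.trans (by decide +kernel)) with rfl | rfl | rfl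
    · exact absurd e (ne _ hu (by decide +kernel))
    · exact x2
    · rwa [m.mul ha hu, ← mul_assoc, x1, mul_assoc, mul_assoc (m.f a1), mul_right_inj] at x2
  have hag := mul_mem ha hg
  rcases Cfsg.Agent.S0111.result P (R ⊓ centralizer {m.f e3}) (hPR ▸ inf_le_left) (by
      rw [hPR, relIndex_eq_two_iff_exists_notMem_and]
      refine ⟨m.f g1, mR _ (by decide +kernel), fun e => absurd ((m.comm_iff hg he).1
        (mem_centralizer_singleton_iff.1 e.2)) (by decide +kernel), fun b hb => ?_⟩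
      obtain ⟨q, hq, -, -, rfl⟩ := hR.1 hb
      rcases (l.S.1 hq).2 with e | e
      · exact Or.inr ⟨hb, mem_centralizer_singleton_iff.2 ((m.comm_iff hq he).2
          (mul_inv_eq_iff_eq_mul.1 e))⟩
      · refine Or.inl ⟨mul_mem hb (mR _ (by decide +kernel)), mem_centralizer_singleton_iff.2 ?_⟩
        rw [← m.mul hq hg, m.comm_iff (mul_mem hq hg) he]
        calc _ = (q * e3 * q⁻¹)⁻¹ * q * g1 := by
              rw [mul_assoc, show g1 * e3 = e3⁻¹ * g1 by decide +kernel]; group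
          _ = _ := by rw [e]; group) (m.f (a1 * g1))
    (H9.orderOf_eq_two_of_mul_self ((m.eq_one_iff hag).not.2 (by decide +kernel))
      ((m.mul_eq_one_iff hag hag).2 (by decide +kernel))) (hPR ▸ mR _ (by decide +kernel))
    (fun e => absurd ((m.comm_iff hag he).1 (mem_centralizer_singleton_iff.1 e.2)) (by decide +kernel))
    with ⟨L, -, hL, e⟩ | ⟨g, e⟩
  · exact e ((memH M l l' (fun i => mem_of_index_two hL ((m.pow_eq_one_iff
      (l.S.2 (by clear * -; revert i; decide +kernel)) 3).2 (by clear * -; revert i; decide +kernel)))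
      fun i => mem_of_index_two hL ((n.pow_eq_one_iff (l'.S.2 (by clear * -; revert i; decide +kernel))
        3).2 (by clear * -; revert i; decide +kernel))).2 (m.f_mem hag))
  · obtain ⟨q, hq, -, -, e', d, d'⟩ := img g _ ⟨hag, by decide +kernel⟩ e.1
    exact d' (d.trans (by decide +kernel)) ((m.comm_iff hq he).1
      (e' ▸ mem_centralizer_singleton_iff.1 e.2))

theorem Lc.good (l : Lc φ m e3) (l' : Lc φ n e1) (h : Hn H φ) :
    n.f (vv 4) * m.f (a1 * u1) = m.f (a1 * u1) * n.f (vv 4) := by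
  have M := h.toMdl
  by_contra hcon
  have ha : a1 ∈ m.S := l.S.2 (by decide +kernel)
  have hu : u1 ∈ m.S := l.S.2 (by decide +kernel)
  have hw : w1 ∈ m.S := l.S.2 (by decide +kernel)
  have hw' : w1 ∈ n.S := l'.S.2 (by decide +kernel)
  have he : e3 ∈ n.S := l'.S.2 (by decide +kernel)
  have he' : e1 ∈ n.S := l'.S.2 (by decide +kernel)
  have f1 : n.f e1 = φ ((1, 0, 0), 0) := l'.ag' _ (by decide +kernel)
  have f3 : n.f e3 = φ (rep 1, 0) := l'.ag' _ (by decide +kernel)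
  have fw : n.f w1 = m.f w1 := (l'.ag' ((0, 2, 0), (1, 0), 0, 0) (by decide +kernel)).trans
    (l.ag' _ (by decide +kernel)).symm
  refine l.bad l' h fun g => l.cen_le h (b := u1) (k := 1) (ε := 0) (by simp) (by decide +kernel)
    (by simp only [List.mem_cons, List.not_mem_nil, or_false, forall_eq_or_imp, forall_eq,
      exists_eq_or_imp, exists_eq_left]; decide +kernel) fun _ X hX hn hc y hy e => ?_
  rw [m.one, one_mul, inv_one, mul_one, ← f1] at e
  obtain ⟨q, hq, rfl⟩ := n.mem_range.1 (l'.rng y (Or.inl (mul_inv_eq_iff_eq_mul.2 e)))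
  let F := (X.comap n.hom).map n.S.subtype
  have hF : ∀ {r}, r ∈ F ↔ r ∈ n.S ∧ n.f r ∈ X :=
    ⟨fun ⟨r, hr, e⟩ => e ▸ ⟨r.2, hr⟩, fun ⟨a, b⟩ => ⟨⟨_, a⟩, b, rfl⟩⟩
  have cj : ∀ {r}, r ∈ F → e3 * r * e3⁻¹ ∈ F := fun hr => hF.2 ⟨mul_mem (mul_mem he (hF.1 hr).1)
    (inv_mem he), by
      rw [n.conj he (hF.1 hr).1, f3]
      exact (mem_normalizer_iff.1 (hn ⟨0, 1, by rw [m.one]; simp [rep]⟩) _).1 (hF.1 hr).2⟩
  have m0 := hF.2 ⟨hq, hy⟩
  have m1 := cj m0
  have m2 := cj m1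
  rcases q3 ((n.comm_iff hq he').1 e) _ _ rfl rfl (l'.S.1 hq).1 (fun w hw e => by
    have : (w ^ 4) ^ 5 ∈ F := pow_mem (pow_mem (by
      simp only [List.mem_cons, List.not_mem_nil, or_false] at hw
      rcases hw with rfl | rfl | rfl <;> apply_rules [mul_mem]) _) _
    exact (n.eq_one_iff (hF.1 this).1).1 (St.eq_one_of_cube hc (hF.1 this).2
      ((n.pow_eq_one_iff (hF.1 this).1 3).2 e))) with e | ⟨w, hw0, e⟩
  · exact f3 ▸ (n.comm_iff hq he).2 e
  exfalso
  obtain ⟨w1, w2⟩ : w ∈ n.S ∧ n.f w ∈ X := hF.1 (by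
    simp only [List.mem_cons, List.not_mem_nil, or_false] at hw0
    rcases hw0 with rfl | rfl | rfl <;> assumption)
  have c1 := (hX w2 _ (Or.inl rfl)).symm
  have c2 := (hX w2 _ (Or.inr rfl)).symm
  rcases e with rfl | rfl | rfl
  · obtain ⟨r, hr, e⟩ := m.mem_range.1 (l.cen_le h (b := N9.w1) (k := k1) (ε := 1) (by simp)
      (by decide +kernel) (by simp only [List.mem_cons, List.not_mem_nil, or_false, forall_eq_or_imp, forall_eq,
      exists_eq_or_imp, exists_eq_left]; decide +kernel) (fun e => absurd e (by decide)) c1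
      (fw ▸ (n.comm_iff w1 hw').2 (by decide +kernel)))
    have he3 : e3 ∈ m.S := l.S.2 (by decide +kernel)
    have := (l.S.1 hr).2
    rw [← m.conj_iff hr he3 he3, ← m.conj_iff hr he3 (inv_mem he3), m.inv he3, e, l.fx, ← f3,
      ← n.inv he, n.conj_iff w1 he he, n.conj_iff w1 he (inv_mem he)] at this
    revert this; decide +kernel
  · exact hcon (by rw [m.mul ha hu, ← mul_assoc, c1, mul_assoc, c2, mul_assoc])
  · have := SE.conj_comm (g := m.f N9.w1) c2
    rw [(m.conj_iff hw hu (mul_mem ha hu)).2 (by decide +kernel), ← fw,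
      (n.conj_iff hw' w1 (l'.S.2 (by decide +kernel : nz e1 (vv 4)))).2 (by decide +kernel)] at this
    exact hcon this

/-- the Carmichael generators -/
def YY (m n : PH P9 G) : Fin 3 ⊕ Fin 4 → G
  | .inl i => m.f (xk i.castSucc)
  | .inr j => n.f (xl j)

theorem Lc.alt (l : Lc φ m e3) (l' : Lc φ n e1) (h : Hn H φ) :
    ∃ k : PH P9 G, k.S = alternatingGroup (Fin 9) ∧ H ≤ k.range ∧ m.range ≤ k.range := by
  have M := h.toMdl
  have x1 : ∀ i, xk i ∈ m.S := fun i => l.S.2 (by revert i; decide +kernel)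
  have x2 : ∀ i, xl i ∈ n.S := fun i => l'.S.2 (by revert i; decide +kernel)
  have e2 : n.f (xl 3) = m.f (xk 3) := (l'.ag' ((0, 1, 0), 0) (by decide +kernel)).trans
    (l.ag' _ (by decide +kernel)).symm
  have k2 : ∀ i j, i ≠ j → (m.f (xk i) * m.f (xk j)) ^ 2 = 1 := fun i j hij => by
    rw [← m.mul (x1 i) (x1 j), m.pow_eq_one_iff (mul_mem (x1 i) (x1 j))]
    clear * - hij; revert i j; decide +kernel
  have k0 : (m.f (xk 0) * n.f (xl 0)) ^ 2 = 1 := by
    have hs : a1 * u1 ∈ m.S := l.S.2 (by decide +kernel)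
    have hv : vv 4 ∈ n.S := l'.S.2 (by decide +kernel)
    have hc : om * omp ∈ m.S := l.S.2 (by decide +kernel)
    have hc' : om * omp ∈ n.S := l'.S.2 (by decide +kernel)
    have f1 : n.f omp = m.f omp := (l'.ag' ((0, 0, 2), (0, 1), 0, 0) (by decide +kernel)).trans
      (l.ag' _ (by decide +kernel)).symm
    have f2 : n.f (om * omp) = m.f (om * omp) :=
      (l'.ag' ((2, 0, 2), (1, 1), 0, 0) (by decide +kernel)).trans (l.ag' _ (by decide +kernel)).symm
    have e3 : m.f (xk 0) * n.f (xl 0) = m.f (a1 * u1) * m.f (om * omp) * n.f (vv 4) := by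
      rw [show xk 0 = a1 * u1 * om by decide +kernel, show xl 0 = omp * vv 4 by decide +kernel,
        m.mul hs (l.S.2 (by decide +kernel)), n.mul (l'.S.2 (by decide +kernel)) hv, f1,
        m.mul (p := om) (l.S.2 (by decide +kernel)) (l.S.2 (by decide +kernel))]; group
    have c1 : Commute (m.f (om * omp)) (n.f (vv 4)) :=
      f2 ▸ (n.comm_iff hc' hv).2 (by decide +kernel)
    rw [e3, Commute.mul_pow (Commute.mul_left (l.good l' h).symm c1),
      Commute.mul_pow ((m.comm_iff hs hc).2 (by decide +kernel)),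
      (m.pow_eq_one_iff hs 2).2 (by decide +kernel), (m.pow_eq_one_iff hc 2).2 (by decide +kernel),
      (n.pow_eq_one_iff hv 2).2 (by decide +kernel)]
    simp
  have k1 : ∀ (i : Fin 3) j, (m.f (xk i.castSucc) * n.f (xl j)) ^ 2 = 1 := fun i j => by
    by_cases hj : j = 3
    · rw [hj, e2]; exact k2 _ _ (Fin.castSucc_lt_last i).ne
    obtain ⟨a, b, c, d⟩ : nz e3 (pm ((i.val, 0, j.val), 0)) ∧ nz e1 (pm ((i.val, 0, j.val), 0)) ∧
        pm ((i.val, 0, j.val), 0) * xk 0 * (pm ((i.val, 0, j.val), 0))⁻¹ = xk i.castSucc ∧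
        pm ((i.val, 0, j.val), 0) * xl 0 * (pm ((i.val, 0, j.val), 0))⁻¹ = xl j := by
      clear * - hj; revert i j; decide +kernel
    rw [← c, ← d, m.conj (l.S.2 a) (x1 0), n.conj (l'.S.2 b) (x2 0), l.ag _ (l.S.2 a),
      l'.ag _ (l'.S.2 b), conj_mul, conj_pow, k0]; simp
  obtain ⟨k, hk, hY⟩ := exists_alt (n := 9) (by simp) (by norm_num) (YY m n) (by
      rintro (i | i)
      · exact (m.pow_eq_one_iff (x1 _) 3).2 (by clear * -; revert i; decide +kernel)
      · exact (n.pow_eq_one_iff (x2 _) 3).2 (by clear * -; revert i; decide +kernel)) (by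
      rintro (i | i) (j | j) hij
      · exact k2 _ _ fun e => hij (congrArg _ (Fin.castSucc_injective _ e))
      · exact k1 i j
      · have := k1 j i
        simp only [YY]
        generalize m.f (xk j.castSucc) = x at *
        calc _ = x⁻¹ * (x * n.f (xl i)) ^ 2 * x := by simp [pow_two, mul_assoc]
          _ = 1 := by rw [this]; simp
      · simp only [YY]
        rw [← n.mul (x2 i) (x2 j), n.pow_eq_one_iff (mul_mem (x2 i) (x2 j))]
        have : i ≠ j := fun e => hij (e ▸ rfl)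
        clear * - this; revert i j; decide +kernel) (i := .inl 0)
    ((m.eq_one_iff (x1 _)).not.2 (by decide +kernel))
  refine ⟨k, hk, memH M l l' (fun i => ?_) fun j => hY (.inr j)⟩
  induction i using Fin.lastCases with
  | last => exact e2 ▸ hY (.inr 3)
  | cast i => exact hY (.inl i)

end H58.N9
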