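import Cfsg.Agent.Lib.A9.Good

/-! A strongly 3-embedded subgroup `A₉` is the whole group. -/

set_option autoImplicit false
set_option synthInstance.maxSize 1024

namespace H58.N9

open Equiv Equiv.Perm H58.Cd H58.SE Subgroup

def z9 : P9 := swap 4 5 * swap 5 6
def w9 : P9 := swap 5 6 * swap 4 7
def b9 : P9 := a1 * g1
def y9 : P9 := swap 0 2 * swap 2 4 * (swap 1 3 * swap 3 5)
def h9 : P9 := swap 0 4 * swap 1 5 * (swap 2 6 * swap 3 7)
def c3 (i j k : Fin 9) : P9 := swap i j * swap j k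
def X1 : List P9 := [c3 4 5 6, c3 4 5 7, c3 4 5 8, c3 4 6 7, c3 4 6 8, c3 4 7 8, c3 5 6 7, c3 5 6 8,
  c3 5 7 8, c3 6 7 8]
def RL : List P9 := [swap 2 3 * swap 4 5 * e3, e3, swap 2 3 * swap 4 5, c3 5 6 7]
def U6 : List P9 := [a1, g1, w1, swap 0 1 * swap 6 7, swap 2 3 * swap 4 5, swap 2 3 * swap 6 7]

theorem evn_conj {k r : P9} : evn (k * r * k⁻¹) ↔ evn r := by
  rw [evn, map_mul, map_mul, map_inv, mul_inv_cancel_comm, evn]

theorem even_conj {r p c : P9} (hc : ¬ evn c ∧ c * r = r * c) (h : IsConj r p) :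
    ∃ k : P9, evn k ∧ k * r * k⁻¹ = p := by
  obtain ⟨k, hk⟩ := isConj_iff.1 h
  rcases Int.units_eq_one_or (sign k) with h1 | h1
  · exact ⟨k, h1, hk⟩
  · refine ⟨k * c, by rw [evn, map_mul, h1, (Int.units_eq_one_or _).resolve_left hc.1]; simp, ?_⟩
    rw [← hk, mul_assoc k, hc.2]; group

theorem invol9 {p : P9} (hp : p * p = 1) (h1 : p ≠ 1) (hs : evn p) : ∃ k, evn k ∧
    (k * a1 * k⁻¹ = p ∧ p.support.card = 4 ∨ k * b9 * k⁻¹ = p ∧ p.support.card = 8) := by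
  have h2 := cycleType_of_pow_prime_eq_one (σ := p) (p := 2) (by rw [pow_two, hp])
  have h3 : p.support.card ≤ 9 := by simpa using p.support.card_le_univ
  have h4 : p.support.card ≠ 0 := by simpa using h1
  have key : ∀ r : P9, r * r = 1 → p.support.card = r.support.card →
      IsConj r p := fun r a b => S8.isConj_of_invol a hp b.symm
  have odd : ∀ r : P9, r * r = 1 ∧ ¬ evn r → p.support.card ≠ r.support.card := fun r a b => by
    obtain ⟨k, rfl⟩ := isConj_iff.1 (key r a.1 b)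
    exact a.2 (evn_conj.1 hs)
  have h5 := odd (swap 0 1) (by decide +kernel)
  have h6 := odd (a1 * swap 4 5) (by decide +kernel)
  rw [show (swap 0 1 : P9).support.card = 2 by decide +kernel] at h5
  rw [show (a1 * swap 4 5 : P9).support.card = 6 by decide +kernel] at h6
  have h7 : p.support.card = 4 ∨ p.support.card = 8 := by
    rw [← sum_cycleType, h2, Multiset.sum_replicate, smul_eq_mul] at h3 h4 h5 h6 ⊢
    omega
  rcases h7 with h | h
  · obtain ⟨k, a, b⟩ := even_conj (c := swap 0 1) (by decide +kernel)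
      (key a1 (by decide +kernel) (h.trans (by decide +kernel)))
    exact ⟨k, a, Or.inl ⟨b, h⟩⟩
  · obtain ⟨k, a, b⟩ := even_conj (c := swap 0 1) (by decide +kernel)
      (key b9 (by decide +kernel) (h.trans (by decide +kernel)))
    exact ⟨k, a, Or.inr ⟨b, h⟩⟩

theorem invol_comm3 {p : P9} (hp : p * p = 1) (h1 : p ≠ 1) (hs : evn p) :
    ∃ x : P9, evn x ∧ x ^ 3 = 1 ∧ x ≠ 1 ∧ x * p = p * x := by
  have key : ∀ k r x : P9, evn x ∧ x ^ 3 = 1 ∧ x ≠ 1 ∧ x * r = r * x →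
      ∃ x : P9, evn x ∧ x ^ 3 = 1 ∧ x ≠ 1 ∧ x * (k * r * k⁻¹) = k * r * k⁻¹ * x :=
    fun k r x ⟨a, b, c, d⟩ => ⟨k * x * k⁻¹, evn_conj.2 a, conj_cube b, conj_ne_one c, conj_comm d⟩
  obtain ⟨k, -, ⟨rfl, -⟩ | ⟨rfl, -⟩⟩ := invol9 hp h1 hs
  exacts [key k _ z9 (by decide +kernel), key k _ y9 (by decide +kernel)]

theorem f1 {q : P9} (h : q * a1 = a1 * q) : q * q = 1 → q.support.card = 4 →
    (a1 * q).support.card = 4 → ∃ x ∈ X1, x * q = q * x := by
  simp only [X1, List.mem_cons, List.not_mem_nil, or_false, exists_eq_or_imp, exists_eq_left]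
  simp only [Cd.eq_iff (n := 9), code_mul, card_support]
  refine fc 9 _ (code q) ⟨a1, q, rfl, rfl, h⟩ ?_
  decide +kernel

theorem X1_spec : ∀ x ∈ X1, evn x ∧ x ^ 3 = 1 ∧ x ≠ 1 ∧ x * a1 = a1 * x := by
  simp only [X1, List.mem_cons, List.not_mem_nil, or_false, forall_eq_or_imp, forall_eq]
  decide +kernel

theorem f2 {q : P9} (h : q * a1 = a1 * q) : (q * u1 * q⁻¹ = u1 ∨ q * u1 * q⁻¹ = u1 * a1) ∧
    (q * u1 = u1 * q → (q ^ 7 = 1 → q = 1) ∧ (evn q → q * z9 = z9 * q → ∃ i : Fin 3,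
      q * z9 ^ i.val = 1 ∨ q * z9 ^ i.val = a1 ∨ q * z9 ^ i.val = u1 ∨ q * z9 ^ i.val = a1 * u1)) := by
  simp only [evn_iff, Cd.eq_iff (n := 9), code_mul, code_inv, code_pow]
  refine fc 9 _ (code q) ⟨a1, q, rfl, rfl, h⟩ ?_
  decide +kernel

theorem f3 {q : P9} (h : q * a1 = a1 * q) : ((q ^ 3) ^ 5) ^ 4 = 1 ∧ ((q ^ 3) ^ 5 = 1 → q ≠ 1 →
    ∃ r ∈ RL, (r * q * r⁻¹ * q⁻¹) * (r * q * r⁻¹ * q⁻¹) = 1 ∧ r * q * r⁻¹ * q⁻¹ ≠ 1 ∧
      r * q * r⁻¹ * q⁻¹ ≠ a1) := by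
  simp only [RL, List.mem_cons, List.not_mem_nil, or_false, exists_eq_or_imp, exists_eq_left]
  simp only [ne_eq, Cd.eq_iff (n := 9), code_mul, code_inv, code_pow]
  refine fc 9 _ (code q) ⟨a1, q, rfl, rfl, h⟩ ?_
  decide +kernel

theorem RL_spec : ∀ r ∈ RL, evn r ∧ r * a1 = a1 * r := by
  simp only [RL, List.mem_cons, List.not_mem_nil, or_false, forall_eq_or_imp, forall_eq]
  decide +kernel

theorem f4 {q : P9} (h : q * b9 = b9 * q) : q * a1 * q⁻¹ ∈ U6 := by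
  simp only [U6, List.mem_cons, List.not_mem_nil, or_false]
  simp only [Cd.eq_iff (n := 9), code_mul, code_inv]
  refine fc 9 _ (code q) ⟨b9, q, rfl, rfl, h⟩ ?_
  decide +kernel

theorem f5 : ∀ s ∈ U6, s ≠ u1 ∧ evn s ∧ (s = a1 ∨ s * a1 = b9 ∨ (s * a1).support.card = 4) ∧
    (s * u1 = u1 * s → (s * u1).support.card = 4 ∨ (s * u1 * b9).support.card = 4) := by
  simp only [U6, List.mem_cons, List.not_mem_nil, or_false, forall_eq_or_imp, forall_eq]
  decide +kernel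

variable {G : Type*} [Group G]

/-- the setting of the final step. -/
structure Fn (m : PH P9 G) : Prop where
  ev : ∀ {p}, p ∈ m.S ↔ evn p
  se : SE3 m.range

namespace Fn

variable [Finite G] {m : PH P9 G} (h : Fn m)
include h

theorem fuse_inv {s : P9} (hs : s ∈ m.S) (h2 : s * s = 1) (h1 : s ≠ 1) {g : G}
    (hg : g * m.f s * g⁻¹ ∈ m.range) : ∃ k ∈ m.S, m.f k * m.f s * (m.f k)⁻¹ = g * m.f s * g⁻¹ := by
  obtain ⟨p, hp, hpg⟩ := m.mem_range.1 hg
  obtain ⟨x, x1, x2, x3, x4⟩ := invol_comm3 h2 h1 (h.ev.1 hs)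
  obtain ⟨y, y1, y2, y3, y4⟩ := invol_comm3
    ((m.mul_eq_one_iff hp hp).1 (hpg ▸ conj_sq ((m.mul_eq_one_iff hs hs).2 h2)))
    ((m.eq_one_iff hp).not.1 (hpg ▸ conj_ne_one ((m.eq_one_iff hs).not.2 h1))) (h.ev.1 hp)
  rw [← h.ev] at x1 y1
  obtain ⟨k, hk0, hk'⟩ := h.se.fuse' (s := m.f s) (g := g) (m.f_mem x1)
    ((m.pow_eq_one_iff x1 3).2 x2) ((m.eq_one_iff x1).not.2 x3)
    ((m.comm_iff x1 hs).2 x4) (m.f_mem y1) ((m.pow_eq_one_iff y1 3).2 y2)
    ((m.eq_one_iff y1).not.2 y3) (hpg ▸ (m.comm_iff y1 hp).2 y4)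
  obtain ⟨k, hk, rfl⟩ := m.mem_range.1 hk0
  exact ⟨k, hk, hk'⟩

theorem conj_inv {s p : P9} (hs : evn s ∧ s * s = 1 ∧ s ≠ 1) (hp : p ∈ m.S) {g : G}
    (hg : g * m.f s * g⁻¹ = m.f p) : p.support.card = s.support.card := by
  obtain ⟨k, hk, hk'⟩ := h.fuse_inv (h.ev.2 hs.1) hs.2.1 hs.2.2 (hg ▸ m.f_mem hp)
  rw [hg, m.conj_iff hk (h.ev.2 hs.1) hp] at hk'
  rw [← hk', card_support_conj]

theorem hV (g : G) (h1 : g * m.f a1 = m.f a1 * g) (h2 : g * m.f u1 = m.f u1 * g) : g ∈ m.range := by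
  have ha : a1 ∈ m.S := h.ev.2 (by decide +kernel)
  have hu : u1 ∈ m.S := h.ev.2 (by decide +kernel)
  have hz : z9 ∈ m.S := h.ev.2 (by decide +kernel)
  have he : e1 ∈ m.S := h.ev.2 (by decide +kernel)
  have hau := mul_mem ha hu
  have c0 := (m.comm_iff ha hu).2 (by decide +kernel)
  let V := four (m.f a1) (m.f u1) ((m.mul_eq_one_iff ha ha).2 (by decide +kernel))
    ((m.mul_eq_one_iff hu hu).2 (by decide +kernel)) c0
  let K : Subgroup G := centralizer {m.f a1, m.f u1}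
  have hK : ∀ {g}, g ∈ K ↔ g * m.f a1 = m.f a1 * g ∧ g * m.f u1 = m.f u1 * g := by
    simp [K, mem_centralizer_iff, eq_comm]
  have hcen : ∀ v ∈ V, ∀ k ∈ K, k * v = v * k := by
    rintro _ (rfl | rfl | rfl | rfl) k hk
    exacts [by simp, (hK.1 hk).1, (hK.1 hk).2,
      by rw [← mul_assoc, (hK.1 hk).1, mul_assoc, (hK.1 hk).2, mul_assoc]]
  have hx : m.f z9 ∈ K :=
    hK.2 ⟨(m.comm_iff hz ha).2 (by decide +kernel), (m.comm_iff hz hu).2 (by decide +kernel)⟩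
  have z3 := (m.pow_eq_one_iff hz 3).2 (by decide +kernel)
  have z1 := (m.eq_one_iff hz).not.2 (by decide +kernel)
  have e3 := (m.pow_eq_one_iff he 3).2 (by decide +kernel)
  have uz := h.se _ (m.f_mem hz) z3 z1
  have cze := (m.comm_iff hz he).2 (by decide +kernel)
  refine le_of_scD (D := zpowers (m.f z9) ⊔ zpowers (m.f e1)) (K := K) (V := V)
    ((H9.isPGroup_zpowers_of_pow (a := 1) z3).to_sup_of_normal_right'
      (H9.isPGroup_zpowers_of_pow (a := 1) e3) (zpowers_le.2 ((St.mem_norm_zpowers e3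
        ((m.eq_one_iff he).not.2 (by decide +kernel))).2 (Or.inl (mul_inv_eq_iff_eq_mul.2 cze)))))
    (sup_le (zpowers_le.2 (le_normalizer hx)) (zpowers_le.2 (mem_normalizer_of_le fun k hk => ?_)))
    (fun v hv => hK.2 ⟨(hcen v hv _ (hK.2 ⟨rfl, c0⟩)).symm, (hcen v hv _ (hK.2 ⟨c0.symm, rfl⟩)).symm⟩)
    (card_four _ _ _ ((m.eq_one_iff ha).not.2 (by decide +kernel))
      ((m.eq_one_iff hu).not.2 (by decide +kernel)) ((m.eq_iff ha hu).not.2 (by decide +kernel)))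
    ?_ hcen hx z3 z1 (fun k hk e => ?_) (m.f_mem hz) uz
    (fun X hn hX => h.se.le_of_inv2 (m.f_mem hz) (m.f_mem he) z3 e3 cze z1 ?_
      (hn (mem_sup_left (mem_zpowers _))) (hn (mem_sup_right (mem_zpowers _))) hX)
    (fun x hx hx' e => ?_) (hK.2 ⟨h1, h2⟩)
  · exact hK.2 ⟨(m.conj_iff he hu ha).2 (by decide +kernel) ▸ conj_comm (hK.1 hk).2,
      (m.conj_iff he hau hu).2 (by decide +kernel) ▸
        conj_comm (hcen _ (Or.inr (Or.inr (Or.inr (m.mul ha hu)))) k hk)⟩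
  · rintro _ (rfl | rfl | rfl | rfl)
    exacts [by simp, (m.mul_eq_one_iff ha ha).2 (by decide +kernel),
      (m.mul_eq_one_iff hu hu).2 (by decide +kernel),
      m.mul ha hu ▸ (m.mul_eq_one_iff hau hau).2 (by decide +kernel)]
  · obtain ⟨q, hq, rfl⟩ := m.mem_range.1 (uz.of_comm (m.f_mem hz) e)
    obtain ⟨i, hi⟩ := ((f2 ((m.comm_iff hq ha).1 (hK.1 hk).1)).2 ((m.comm_iff hq hu).1 (hK.1 hk).2)).2
      (h.ev.1 hq) ((m.comm_iff hq hz).1 e)
    refine ⟨i, ?_⟩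
    rw [← m.pow hz, ← m.mul hq (pow_mem hz _), mem_four, ← m.mul ha hu, ← m.one]
    exact hi.imp (congrArg _) (Or.imp (congrArg _) (Or.imp (congrArg _) (congrArg _)))
  · rw [H53.Odd.mem_zpowers_three z3, ← m.inv hz, m.eq_one_iff he, m.eq_iff he hz,
      m.eq_iff he (inv_mem hz)]
    decide +kernel
  · obtain ⟨q, hq, rfl⟩ := m.mem_range.1 hx
    exact (m.eq_one_iff hq).2 (((f2 ((m.comm_iff hq ha).1 (hK.1 hx').1)).2
      ((m.comm_iff hq hu).1 (hK.1 hx').2)).1 ((m.pow_eq_one_iff hq 7).1 e))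

theorem huf (g : G) (hg : g * m.f a1 = m.f a1 * g) (hu : g * m.f u1 * g⁻¹ ∈ m.range) :
    g ∈ m.range := by
  have ha : a1 ∈ m.S := h.ev.2 (by decide +kernel)
  have hu' : u1 ∈ m.S := h.ev.2 (by decide +kernel)
  obtain ⟨q, hq, hqg⟩ := m.mem_range.1 hu
  have hga : g * m.f a1 * g⁻¹ = m.f a1 := by rw [hg]; simp
  obtain ⟨x, hx, k1⟩ := f1 ((m.comm_iff hq ha).1 (by
      rw [hqg, ← hga]; exact conj_comm ((m.comm_iff hu' ha).2 (by decide +kernel))))
    ((m.mul_eq_one_iff hq hq).1 (hqg ▸ conj_sq ((m.mul_eq_one_iff hu' hu').2 (by decide +kernel))))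
    ((h.conj_inv (by decide +kernel) hq hqg.symm).trans (by decide +kernel))
    ((h.conj_inv (s := a1 * u1) (g := g) (by decide +kernel) (mul_mem ha hq) (by
      rw [m.mul ha hu', m.mul ha hq, hqg, ← conj_mul, hga])).trans (by decide +kernel))
  obtain ⟨x1, x2, x3, x4⟩ := X1_spec x hx
  have hx' := h.ev.2 x1
  have e : g * (g⁻¹ * m.f x * g⁻¹⁻¹) * g⁻¹ = m.f x := by group
  exact h.se _ (h.hV _ (comm_of_conj (g := g) (by rw [e, hga, m.comm_iff hx' ha, x4]))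
    (comm_of_conj (g := g) (by rw [e, ← hqg, m.comm_iff hx' hq, k1])))
    (conj_cube ((m.pow_eq_one_iff hx' 3).2 x2)) (conj_ne_one ((m.eq_one_iff hx').not.2 x3)) g
    (e.symm ▸ m.f_mem hx')

theorem cent_a : ∀ g, g * m.f a1 = m.f a1 * g → g ∈ m.range := by
  have ha : a1 ∈ m.S := h.ev.2 (by decide +kernel)
  have hu : u1 ∈ m.S := h.ev.2 (by decide +kernel)
  have hz : z9 ∈ m.S := h.ev.2 (by decide +kernel)
  have hv : g1 ∈ m.S := h.ev.2 (by decide +kernel)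
  have hw : w9 ∈ m.S := h.ev.2 (by decide +kernel)
  have h0' : h9 ∈ m.S := h.ev.2 (by decide +kernel)
  refine h.se.cent_le (u := m.f u1) (z := m.f z9) (v := m.f g1) (w := m.f w9)
    ((m.mul_eq_one_iff ha ha).2 (by decide +kernel)) (m.f_mem ha)
    ((m.mul_eq_one_iff hu hu).2 (by decide +kernel)) ((m.eq_one_iff hu).not.2 (by decide +kernel))
    ((m.eq_iff hu ha).not.2 (by decide +kernel)) (m.f_mem hu)
    ((m.comm_iff hu ha).2 (by decide +kernel)) h.huf ?_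
    ((m.pow_eq_one_iff hz 3).2 (by decide +kernel)) ((m.eq_one_iff hz).not.2 (by decide +kernel))
    (m.f_mem hz) ((m.comm_iff hz ha).2 (by decide +kernel))
    ((m.mul_eq_one_iff hv hv).2 (by decide +kernel)) ((m.eq_one_iff hv).not.2 (by decide +kernel))
    ((m.eq_iff hv ha).not.2 (by decide +kernel)) ((m.comm_iff hv ha).2 (by decide +kernel))
    ((m.conj_iff hz hv hw).2 (by decide +kernel)) ?_ ((m.comm_iff hv hw).2 (by decide +kernel)) ?_ ?_
  · intro g hg hga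
    obtain ⟨q, hq, rfl⟩ := m.mem_range.1 hg
    rw [← m.mul hu ha, m.conj_iff hq hu hu, m.conj_iff hq hu (m.S.mul_mem hu ha)]
    exact (f2 ((m.comm_iff hq ha).1 hga)).1
  · rw [← m.mul hv hw, m.conj_iff hz hw (m.S.mul_mem hv hw)]; decide +kernel
  · intro g h1 h2
    have e1 : m.f h9 * m.f a1 * (m.f h9)⁻¹ = m.f g1 := (m.conj_iff h0' ha hv).2 (by decide +kernel)
    have e2 : m.f h9 * m.f u1 * (m.f h9)⁻¹ = m.f g1 * m.f w9 := by
      rw [← m.mul hv hw]; exact (m.conj_iff h0' hu (m.S.mul_mem hv hw)).2 (by decide +kernel)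
    have e : m.f h9 * ((m.f h9)⁻¹ * g * m.f h9) * (m.f h9)⁻¹ = g := by group
    have := h.hV _ (comm_of_conj (g := m.f h9) (by rw [e, e1, h1])) (comm_of_conj (g := m.f h9)
      (by rw [e, e2, ← mul_assoc g, h1, mul_assoc (m.f g1), h2, mul_assoc (m.f g1)]))
    exact e ▸ mul_mem (mul_mem (m.f_mem h0') this) (inv_mem (m.f_mem h0'))
  · intro g hg hga hodd h1
    obtain ⟨q, hq, rfl⟩ := m.mem_range.1 hg
    obtain ⟨h4, h5⟩ := f3 ((m.comm_iff hq ha).1 hga)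
    rw [m.orderOf_eq hq] at hodd
    obtain ⟨r, hr, h4, h5, h6⟩ := h5 (orderOf_eq_one_iff.1 (Nat.Coprime.eq_one_of_dvd
      (Nat.Coprime.pow_right 2 (Nat.coprime_two_right.2 (hodd.of_dvd_nat
        ((orderOf_pow_dvd _).trans (orderOf_pow_dvd _))))) (orderOf_dvd_of_pow_eq_one h4)))
      ((m.eq_one_iff hq).not.1 h1)
    have hv := h.ev.2 (RL_spec r hr).1
    have hc := mul_mem (mul_mem (mul_mem hv hq) (inv_mem hv)) (inv_mem hq)
    refine ⟨m.f r, (m.comm_iff hv ha).2 (RL_spec r hr).2, ?_⟩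
    rw [← m.conj hv hq, ← m.inv hq, ← m.mul (mul_mem (mul_mem hv hq) (inv_mem hv)) (inv_mem hq)]
    exact ⟨(m.mul_eq_one_iff hc hc).2 h4, (m.eq_one_iff hc).not.2 h5, (m.eq_iff hc ha).not.2 h6⟩

theorem uf_of {s : P9} (hs : evn s ∧ s * s = 1 ∧ s ≠ 1)
    (hc : ∀ g, g * m.f s = m.f s * g → g ∈ m.range) : UF m.range (m.f s) :=
  uf_of_cent hc fun g hg => by
    obtain ⟨k, hk, hk'⟩ := h.fuse_inv (h.ev.2 hs.1) hs.2.1 hs.2.2 hg
    exact ⟨_, m.f_mem hk, hk'⟩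

theorem uf4 {p : P9} (hs : p ∈ m.S) (hp : p * p = 1) (h4 : p.support.card = 4) :
    UF m.range (m.f p) := by
  obtain ⟨k, hk, ⟨rfl, -⟩ | ⟨-, e⟩⟩ := invol9 hp (by rintro rfl; simp at h4) (h.ev.1 hs)
  · rw [m.conj (h.ev.2 hk) (h.ev.2 (by decide +kernel))]
    exact (h.uf_of (by decide +kernel) h.cent_a).conj (m.f_mem (h.ev.2 hk))
  · omega

theorem cent_b : ∀ g, g * m.f b9 = m.f b9 * g → g ∈ m.range := by
  intro g hg
  by_contra hgH
  have ha : a1 ∈ m.S := h.ev.2 (by decide +kernel)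
  have hu : u1 ∈ m.S := h.ev.2 (by decide +kernel)
  have hb : b9 ∈ m.S := h.ev.2 (by decide +kernel)
  have ua := h.uf4 ha (by decide +kernel) (by decide +kernel)
  have uu := h.uf4 hu (by decide +kernel) (by decide +kernel)
  have a2 : m.f a1 * m.f a1 = 1 := (m.mul_eq_one_iff ha ha).2 (by decide +kernel)
  have u2 : m.f u1 * m.f u1 = 1 := (m.mul_eq_one_iff hu hu).2 (by decide +kernel)
  let K : Subgroup G := centralizer {m.f b9}
  have hK : ∀ {k}, k ∈ K ↔ k * m.f b9 = m.f b9 * k := mem_centralizer_singleton_iff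
  have hgK : g ∈ K := hK.2 hg
  have key : ∀ k ∈ K, k * m.f a1 * k⁻¹ ∈ m.range → ∃ s ∈ U6, m.f s = k * m.f a1 * k⁻¹ := by
    intro k hk hk'
    obtain ⟨q, hq, rfl⟩ := m.mem_range.1 (ua k hk')
    exact ⟨_, f4 ((m.comm_iff hq hb).1 (hK.1 hk)), m.conj hq ha⟩
  obtain ⟨e, heK, e2, e1, ex, ey, k, hk, l, hl, hkl⟩ := dihedral (K := K) (x := m.f a1)
    (y := g * m.f u1 * g⁻¹) (hK.2 ((m.comm_iff ha hb).2 (by decide +kernel)))
    (K.mul_mem (K.mul_mem hgK (hK.2 ((m.comm_iff hu hb).2 (by decide +kernel)))) (K.inv_mem hgK)) a2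
    (conj_sq u2) (by
      intro k hk hk'
      have e : g⁻¹ * k * m.f a1 * (g⁻¹ * k)⁻¹ = m.f u1 := by
        calc _ = g⁻¹ * (k * m.f a1 * k⁻¹) * g := by group
          _ = _ := by rw [hk']; group
      obtain ⟨s, hs, hs'⟩ := key _ (K.mul_mem (K.inv_mem hgK) hk) (e ▸ m.f_mem hu)
      exact (f5 s hs).1 (m.inj (h.ev.2 (f5 s hs).2.1) hu (hs'.trans e)))
  have heH : e ∈ m.range := ua.of_comm (m.f_mem ha) ex
  have ey' : g⁻¹ * e * g * m.f u1 = m.f u1 * (g⁻¹ * e * g) := by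
    calc _ = g⁻¹ * (e * (g * m.f u1 * g⁻¹)) * g := by group
      _ = _ := by rw [ey]; group
  have he'H : g⁻¹ * e * g ∈ m.range := uu.of_comm (m.f_mem hu) ey'
  rcases hkl with ⟨h1, h2⟩ | ⟨-, h2⟩
  · obtain ⟨s, hs, hs'⟩ := key k hk (h1 ▸ m.range.mul_mem heH (m.f_mem ha))
    obtain ⟨-, s1, s2, -⟩ := f5 s hs
    have hes : m.f (s * a1) = e := by
      rw [m.mul (h.ev.2 s1) ha, hs', h1, mul_assoc, a2, mul_one]
    have hsa := m.S.mul_mem (h.ev.2 s1) ha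
    rcases s2 with s2 | s2 | s2
    · refine e1 ?_
      rw [← hes, s2, m.mul ha ha, a2]
    · rw [s2] at hes
      have e : g⁻¹ * l * g * m.f u1 * (g⁻¹ * l * g)⁻¹ = m.f (b9 * u1) := by
        calc _ = g⁻¹ * (l * (g * m.f u1 * g⁻¹) * l⁻¹) * g := by group
          _ = g⁻¹ * (m.f b9 * g) * m.f u1 := by rw [h2, hes]; group
          _ = _ := by rw [← hg, m.mul hb hu]; group
      exact absurd (h.conj_inv (by decide +kernel) (m.S.mul_mem hb hu) e) (by decide +kernel)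
    · have := h.uf4 hsa ((m.mul_eq_one_iff hsa hsa).1 (by rw [hes, e2])) s2 g⁻¹
        (by rw [hes, inv_inv]; exact he'H)
      exact hgH (by simpa using this)
  · have ee : g⁻¹ * l * m.f a1 * (g⁻¹ * l)⁻¹ = g⁻¹ * e * g * m.f u1 := by
      calc _ = g⁻¹ * (l * m.f a1 * l⁻¹) * g := by group
        _ = _ := by rw [h2]; group
    obtain ⟨s, hs, hs'⟩ := key _ (K.mul_mem (K.inv_mem hgK) hl)
      (ee ▸ m.range.mul_mem he'H (m.f_mem hu))
    obtain ⟨-, s1, -, s2⟩ := f5 s hs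
    have hsu := m.S.mul_mem (h.ev.2 s1) hu
    have hes : m.f (s * u1) = g⁻¹ * e * g := by
      rw [m.mul (h.ev.2 s1) hu, hs', ee, mul_assoc, u2, mul_one]
    have hsq : s * u1 * (s * u1) = 1 := (m.mul_eq_one_iff hsu hsu).1 (by
      rw [hes]; simpa using conj_sq (g := g⁻¹) e2)
    have hc : s * u1 * u1 = u1 * (s * u1) := (m.comm_iff hsu hu).1 (by rw [hes, ey'])
    have uu1 : u1 * u1 = 1 := by decide +kernel
    rcases s2 (by
      rw [mul_assoc, uu1, mul_one] at hc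
      nth_rewrite 2 [hc]; rw [← mul_assoc, uu1, one_mul]) with s3 | s3
    · exact hgH (h.uf4 hsu hsq s3 g (by rw [hes]; simpa [mul_assoc] using heH))
    · have hcb : s * u1 * b9 = b9 * (s * u1) := (m.comm_iff hsu hb).1 (by
        rw [hes]; exact hK.1 (K.mul_mem (K.mul_mem (K.inv_mem hgK) heK) hgK))
      refine hgH (h.uf4 (mul_mem hsu hb) ?_ s3 g ?_)
      · calc _ = s * u1 * (b9 * (s * u1)) * b9 := by group
          _ = (s * u1 * (s * u1)) * (b9 * b9) := by rw [← hcb]; group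
          _ = 1 := by rw [hsq, show b9 * b9 = 1 by decide +kernel, one_mul]
      · rw [m.mul hsu hb, hes]
        have : g * (g⁻¹ * e * g * m.f b9) * g⁻¹ = e * m.f b9 := by
          rw [mul_assoc _ g, hg]; group
        rw [this]; exact m.range.mul_mem heH (m.f_mem hb)

theorem range_eq_top : m.range = ⊤ := by
  refine eq_top_iff.2 fun g _ => ?_
  by_contra hgH
  have ha : a1 ∈ m.S := h.ev.2 (by decide +kernel)
  have hb : b9 ∈ m.S := h.ev.2 (by decide +kernel)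
  have ub := h.uf_of (by decide +kernel) h.cent_b
  obtain ⟨e, -, e2, e1, ex, ey, -⟩ := dihedral (K := ⊤) (x := m.f a1)
    (y := g * m.f b9 * g⁻¹) trivial trivial ((m.mul_eq_one_iff ha ha).2 (by decide +kernel))
    (conj_sq ((m.mul_eq_one_iff hb hb).2 (by decide +kernel))) (by
      intro k _ hk'
      have e : g⁻¹ * k * m.f a1 * (g⁻¹ * k)⁻¹ = m.f b9 := by
        calc _ = g⁻¹ * (k * m.f a1 * k⁻¹) * g := by group
          _ = _ := by rw [hk']; group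
      exact absurd (h.conj_inv (by decide +kernel) hb e) (by decide +kernel))
  obtain ⟨p, hp, rfl⟩ := m.mem_range.1 (h.cent_a e ex)
  have he'H : g⁻¹ * m.f p * g ∈ m.range := ub.of_comm (m.f_mem hb) (by
    calc _ = g⁻¹ * (m.f p * (g * m.f b9 * g⁻¹)) * g := by group
      _ = _ := by rw [ey]; group)
  have hp2 := (m.mul_eq_one_iff hp hp).1 e2
  have up : UF m.range (m.f p) := by
    obtain ⟨k, hk, ⟨-, e⟩ | ⟨rfl, -⟩⟩ := invol9 hp2 ((m.eq_one_iff hp).not.1 e1) (h.ev.1 hp)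
    · exact h.uf4 hp hp2 e
    · rw [m.conj (h.ev.2 hk) hb]
      exact ub.conj (m.f_mem (h.ev.2 hk))
  exact hgH (by simpa using up g⁻¹ (by rw [inv_inv]; exact he'H))

end Fn

end H58.N9
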