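import Cfsg.Agent.Lib.A9.P9
import Cfsg.Agent.Lib.Core.PCore
import Cfsg.Agent.Lib.Transfer.NormalComplement
import Cfsg.Agent.S0117

/-! Groups in which `3³ : S₄` is the normaliser of `3³`: fusion and transfer. -/

set_option autoImplicit false

namespace H58.N9

open Cfsg H53.Odd H58.SE Subgroup

variable {G : Type*} [Group G] {H : Subgroup G} {φ : M → G}

/-- the subgroup `J` -/
def Jh (h : Mdl H mul φ) : Subgroup G where
  carrier := {g | ∃ u, φ (u, 0) = g}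
  one_mem' := ⟨0, md_one h⟩
  mul_mem' := by rintro _ _ ⟨u, rfl⟩ ⟨v, rfl⟩; exact ⟨u + v, md_add h u v⟩
  inv_mem' := by rintro _ ⟨u, rfl⟩; exact ⟨-u, (md_add h).neg u⟩

theorem md_mem (h : Mdl H mul φ) (p : M) : φ p ∈ H := (h.mem _).2 ⟨p, rfl⟩

theorem J_mem (h : Mdl H mul φ) (u : V27) : φ (u, 0) ∈ Jh h := ⟨u, rfl⟩

theorem md_add' (h : Mdl H mul φ) (u v : V27) : φ (u + v, 0) = φ (u, 0) * φ (v, 0) := md_add h u v

theorem md_neg (h : Mdl H mul φ) (u : V27) : φ (-u, 0) = (φ (u, 0))⁻¹ := (md_add h).neg u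

theorem md_nsmul (h : Mdl H mul φ) (n : ℕ) (u : V27) : φ (n • u, 0) = φ (u, 0) ^ n :=
  (md_add h).nsmul n u

theorem Jh_le (h : Mdl H mul φ) : Jh h ≤ H := by rintro _ ⟨u, rfl⟩; exact md_mem h _

theorem card_Jh (h : Mdl H mul φ) : Nat.card (Jh h) = 27 := by
  rw [← Nat.card_congr (Equiv.ofBijective (fun u : V27 => (⟨φ (u, 0), u, rfl⟩ : Jh h))
    ⟨fun u v e => congrArg Prod.fst (h.inj (congrArg Subtype.val e)),
      fun ⟨_, u, e⟩ => ⟨u, Subtype.ext e⟩⟩)]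
  simp

theorem pg_Jh (h : Mdl H mul φ) : IsPGroup 3 (Jh h) := IsPGroup.of_card (n := 3) (card_Jh h)

theorem Jh_comm (h : Mdl H mul φ) {a b : G} (ha : a ∈ Jh h) (hb : b ∈ Jh h) : a * b = b * a := by
  obtain ⟨u, rfl⟩ := ha
  obtain ⟨v, rfl⟩ := hb
  exact md_JJ h u v

theorem Jh_cube (h : Mdl H mul φ) {a : G} (ha : a ∈ Jh h) : a ^ 3 = 1 := by
  obtain ⟨u, rfl⟩ := ha
  exact md_cube h u

theorem Jh_conj (h : Mdl H mul φ) {g a : G} (hg : g ∈ H) (ha : a ∈ Jh h) : g * a * g⁻¹ ∈ Jh h := by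
  obtain ⟨u, rfl⟩ := ha
  obtain ⟨r, rfl⟩ := (h.mem g).1 hg
  exact ⟨_, (md_cj h r u).symm⟩

theorem big_le [Finite G] (h : Mdl H mul φ) {A : Subgroup G} (hA : A ≤ H)
    (hc : ∀ a ∈ A, ∀ b ∈ A, a * b = b * a) (h3 : ∀ a ∈ A, a ^ 3 = 1) (h27 : 27 ≤ Nat.card A) :
    A ≤ Jh h := by
  intro a ha
  obtain ⟨p, rfl⟩ := (h.mem a).1 (hA ha)
  by_cases e : p.2 = 0
  · exact ⟨p.1, by rw [← e]⟩
  have h1 := t2 p ((md_pw1 h).1 (h3 _ ha)) e
  rw [← h.card_eq (fun g => g ∈ H ∧ g * φ p = φ p * g) _ (fun g hg => hg.1)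
    fun r => (and_iff_right (md_mem h r)).trans (md_comm h)] at h1
  have := Nat.card_le_card_of_injective (fun x : A => (⟨x, hA x.2, hc _ x.2 _ ha⟩ :
    {g // g ∈ H ∧ g * φ p = φ p * g})) fun x y e => Subtype.ext (congrArg (·.1) e)
  omega

theorem s1 : ∀ w, (∀ u, act w u = u) → w = 0 := by decide +kernel

theorem s2 : ∀ p, mul p (rep 3, 0) = mul (rep 3, 0) p → pw p 9 = 0 := by decide +kernel

theorem s3 : ∀ u w, u ≠ 0 → kap u ≠ 3 → act w u = u → ∀ v, (pw (v, w) 4).2 = 0 := by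
  decide +kernel

theorem z1 : ∀ b : Multiplicative (ZMod 3), b ≠ 1 → ∀ a, ∃ i : Fin 3, a * b ^ i.val = 1 := by decide

theorem z2 : ∀ a : Multiplicative (ZMod 3), a ^ 3 = 1 := by decide

/-- the hypotheses -/
structure Hn (H : Subgroup G) (φ : M → G) : Prop extends Mdl H mul φ where
  hN : ∀ g, (∀ u, g * φ (u, 0) * g⁻¹ ∈ H) → g ∈ H
  hO : ∀ u : V27, u ≠ 0 → ∀ X ≤ centralizer {φ (u, 0)}, (Nat.card X).Coprime 3 →
    centralizer {φ (u, 0)} ≤ normalizer (X : Set G) → X = ⊥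

/-- `C(j) = K × ⟨j⟩` -/
structure Spl (K : Subgroup G) (j : G) : Prop where
  le : K ≤ centralizer {j}
  nm : j ∉ K
  dec : ∀ g, g * j = j * g → ∃ i : ℕ, g * j ^ i ∈ K
  cop : ∀ g n, g * j = j * g → g ^ n = 1 → n.Coprime 3 → g ∈ K
  cm : ∀ g g', g * j = j * g → g' * j = j * g' → g * g' * g⁻¹ * g'⁻¹ ∈ K

theorem Spl.comm {K : Subgroup G} {j k : G} (h : Spl K j) (hk : k ∈ K) : k * j = j * k :=
  mem_centralizer_singleton_iff.1 (h.le hk)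

theorem Spl.conj {K : Subgroup G} {j g k : G} (h : Spl K j) (hg : g * j = j * g) (hk : k ∈ K) :
    g * k * g⁻¹ ∈ K := by simpa using mul_mem (h.cm g k hg (h.comm hk)) hk

theorem Spl.norm [Finite G] {K X : Subgroup G} {j : G} (h : Spl K j) (hX : X ≤ K)
    (hn : K ≤ normalizer (X : Set G)) : centralizer {j} ≤ normalizer (X : Set G) := by
  intro g hg
  obtain ⟨i, hi⟩ := h.dec g (mem_centralizer_singleton_iff.1 hg)
  have : j ∈ normalizer (X : Set G) :=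
    mem_normalizer_of_le fun x hx => by rw [← h.comm (hX hx)]; simpa using hx
  simpa using mul_mem (hn hi) (inv_mem (pow_mem this i))

namespace Hn

variable [Finite G] (h : Hn H φ)
include h

theorem wc {P : Subgroup G} (hP : IsPGroup 3 P) (hJ : ∀ u, φ (u, 0) ∈ P) : P ≤ H := by
  by_contra hn
  obtain ⟨s, hs, hsn, hs'⟩ := H2.exists_mem_normalizer_not_mem hP.isNilpotent
    (lt_of_le_of_ne inf_le_left fun e : P ⊓ H = P => hn (e ▸ inf_le_right))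
  exact hs' ⟨hs, h.hN s fun u => ((mem_normalizer_iff.1 hsn _).1 ⟨hJ u, md_mem h.toMdl _⟩).2⟩

theorem fusK {K : Subgroup G} (hJ : ∀ u, φ (u, 0) ∈ K) {g : G} (hg : ∀ u, g * φ (u, 0) * g⁻¹ ∈ K) :
    ∃ k ∈ K, k * g ∈ H := by
  obtain ⟨P, hP⟩ := ((pg_Jh h.toMdl).comap_subtype (K := K)).exists_le_sylow
  obtain ⟨k, hk⟩ := H9.exists_conj_mem_sylow P
    (((pg_Jh h.toMdl).map (MulAut.conj g).toMonoidHom).comap_subtype (K := K))
  refine ⟨k, k.2, h.hN _ fun u => h.wc (P.isPGroup'.map K.subtype)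
    (fun u => ⟨⟨_, hJ u⟩, hP ⟨u, rfl⟩, rfl⟩) ⟨_, hk ⟨_, hg u⟩ ⟨_, ⟨u, rfl⟩, rfl⟩, ?_⟩⟩
  simp [mul_assoc]

theorem fus {g : G} {u v : V27} (e : g * φ (u, 0) * g⁻¹ = φ (v, 0)) :
    ∃ k, k * φ (v, 0) = φ (v, 0) * k ∧ k * g ∈ H := by
  obtain ⟨k, hk, hk'⟩ := h.fusK (K := centralizer {φ (v, 0)}) (g := g)
    (fun u => mem_centralizer_singleton_iff.2 (md_JJ h.toMdl _ _))
    fun u => mem_centralizer_singleton_iff.2 (e ▸ SE.conj_comm (md_JJ h.toMdl _ _))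
  exact ⟨k, mem_centralizer_singleton_iff.1 hk, hk'⟩

theorem kap_eq {g : G} {u v : V27} (e : g * φ (u, 0) * g⁻¹ = φ (v, 0)) : kap u = kap v := by
  obtain ⟨k, hk, hk'⟩ := h.fus e
  obtain ⟨r, hr⟩ := (h.mem _).1 hk'
  have := md_cj h.toMdl r u
  rw [hr, show k * g * φ (u, 0) * (k * g)⁻¹ = k * (g * φ (u, 0) * g⁻¹) * k⁻¹ by group, e, hk,
    mul_inv_cancel_right] at this
  rw [show v = act r.2 u from congrArg Prod.fst (h.inj this), t5]

omit [Finite G] in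
theorem cJ {g : G} (hg : ∀ u, g * φ (u, 0) = φ (u, 0) * g) : g ∈ Jh h.toMdl := by
  obtain ⟨⟨v, w⟩, rfl⟩ := (h.mem g).1 (h.hN g fun u => by simpa [hg] using md_mem h.toMdl _)
  obtain rfl := s1 w fun u => by
    have := md_cj h.toMdl (v, w) u
    rw [hg, mul_inv_cancel_right] at this
    exact (congrArg Prod.fst (h.inj this)).symm
  exact ⟨v, rfl⟩

theorem core {u : V27} (hu : u ≠ 0) {Y X : Subgroup G} (hY : Y ≤ centralizer {φ (u, 0)})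
    (hn : centralizer {φ (u, 0)} ≤ normalizer (Y : Set G)) (hX : X ≤ Y)
    (hn' : Y ≤ normalizer (X : Set G)) (hc : (Nat.card X).Coprime 3) : X = ⊥ := by
  refine eq_bot_iff.2 ((H1.le_piCoreOf hX hn' (H1.isPiSubgroup_compl_singleton_iff.2 hc)).trans ?_)
  exact (h.hO u hu _ ((H1.piCoreOf_le Y).trans hY)
    (H1.isPiSubgroup_compl_singleton_iff.1 (H1.isPiSubgroup_piCoreOf Y))
    (hn.trans (H1.normalizer_le_normalizer_piCoreOf Y))).le

theorem cz {g : G} (hg : g * φ (rep 3, 0) = φ (rep 3, 0) * g) : g ∈ H := by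
  let C : Subgroup G := centralizer {φ (rep 3, 0)}
  have hJ : Jh h.toMdl ≤ C := fun a ha =>
    mem_centralizer_singleton_iff.2 (Jh_comm h.toMdl ha ⟨_, rfl⟩)
  obtain ⟨P, hP⟩ := ((pg_Jh h.toMdl).comap_subtype (K := C)).exists_le_sylow
  have hPH : (P : Subgroup C).map C.subtype ≤ H := h.wc (P.isPGroup'.map C.subtype)
    fun u => ⟨⟨_, hJ ⟨u, rfl⟩⟩, hP ⟨u, rfl⟩, rfl⟩
  let f : P →* G := C.subtype.comp (P : Subgroup C).subtype
  have hf : Function.Injective f := Subtype.val_injective.comp Subtype.val_injective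
  have hJc : Nat.card ((Jh h.toMdl).comap f) = 27 := by
    rw [← card_Jh h.toMdl, ← card_map_of_injective hf, map_comap_eq_self]
    exact fun a ha => ⟨⟨⟨a, hJ ha⟩, hP ha⟩, rfl⟩
  have key : ∀ A : Subgroup P, IsElementaryAbelian 3 A → 27 ≤ Nat.card A →
      A ≤ (Jh h.toMdl).comap f := fun A hA h27 => map_le_iff_le_comap.1 (big_le h.toMdl
    (by rintro _ ⟨a, -, rfl⟩; exact hPH ⟨a, a.2, rfl⟩)
    (by
      rintro _ ⟨a, ha, rfl⟩ _ ⟨b, hb, rfl⟩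
      have := hA.1
      rw [← map_mul, setLike_mul_comm ha hb, map_mul])
    (by rintro _ ⟨a, ha, rfl⟩; rw [← map_pow, hA.2 a ha, map_one])
    (by rwa [card_map_of_injective hf]))
  have hE : IsElementaryAbelian 3 ((Jh h.toMdl).comap f) :=
    ⟨⟨⟨fun a b => Subtype.ext (hf (by simpa using Jh_comm h.toMdl a.2 b.2))⟩⟩,
      fun a ha => hf (by simpa using Jh_cube h.toMdl ha)⟩
  have hT : thompsonSubgroup 3 P = (Jh h.toMdl).comap f := le_antisymm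
    (sSup_le fun A hA => key A hA.1 (hJc ▸ hA.2 _ hE)) (le_sSup ⟨hE, fun B hB => by
      by_cases h27 : 27 ≤ Nat.card B
      · exact card_le_of_le (key B hB h27)
      · omega⟩)
  have hZ : ∀ c : C, c ∈ centerThompsonOf 3 (P : Subgroup C) ↔ (c : G) ∈ Jh h.toMdl := by
    have h1 : ∀ c : C, c ∈ thompsonSubgroupOf 3 (P : Subgroup C) ↔ (c : G) ∈ Jh h.toMdl := fun c =>
      ⟨fun ⟨a, ha, e⟩ => e ▸ (show a ∈ (Jh h.toMdl).comap f from hT ▸ ha),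
        fun hc => ⟨⟨c, hP hc⟩, hT ▸ hc, rfl⟩⟩
    exact fun c => ⟨fun hc => (h1 c).1 hc.1, fun hc => ⟨(h1 c).2 hc, fun d hd =>
      Subtype.ext (Jh_comm h.toMdl ((h1 d).1 hd) hc)⟩⟩
  obtain ⟨N, hN, hc⟩ := (H4.hasNormalPComplement_iff_sylow P).1
    ((Cfsg.Agent.S0117.result (by norm_num) P).2 (H4.hasNormalPComplement_of_isPGroup fun c => by
      obtain ⟨p, hp⟩ := (h.mem c).1 (h.hN _ fun u => Jh_le h.toMdl (((hZ _).1
        ((mem_normalizer_iff.1 c.2 ⟨_, hJ ⟨u, rfl⟩⟩).1 ((hZ _).2 ⟨u, rfl⟩)))))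
      refine ⟨2, Subtype.ext (Subtype.ext ?_)⟩
      change ((c : C) : G) ^ 9 = 1
      rw [← hp, md_pw1 h.toMdl]
      exact s2 p ((md_comm h.toMdl).1 (hp ▸ mem_centralizer_singleton_iff.1 c.1.2))))
  have h1 := h.hO (rep 3) (by decide) (N.map C.subtype) (map_subtype_le _) (by
      rw [card_subtype, ← hc.index_eq_card]
      exact ((Nat.Prime.coprime_iff_not_dvd (by norm_num)).2 P.not_dvd_index).symm)
    fun c hc => mem_normalizer_of_le (by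
      rintro _ ⟨n, hn, rfl⟩; exact ⟨_, hN.conj_mem n hn ⟨c, hc⟩, rfl⟩)
  rw [map_eq_bot_iff_of_injective _ Subtype.val_injective] at h1
  rw [h1, isComplement'_bot_left] at hc
  exact hPH ⟨⟨g, mem_centralizer_singleton_iff.2 hg⟩, hc ▸ mem_top _, rfl⟩

theorem inJ {u : V27} (hu : u ≠ 0) (h3 : kap u ≠ 3) {Q : Subgroup G} (hQ : IsPGroup 3 Q)
    (hJ : ∀ v, φ (v, 0) ∈ Q) (hC : Q ≤ centralizer {φ (u, 0)}) : Q ≤ Jh h.toMdl := by
  intro q hq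
  obtain ⟨⟨v, w⟩, rfl⟩ := (h.mem q).1 (h.wc hQ hJ hq)
  obtain ⟨n, hn⟩ := hQ ⟨_, hq⟩
  have e := md_cj h.toMdl (v, w) u
  rw [mem_centralizer_singleton_iff.1 (hC hq), mul_inv_cancel_right] at e
  have h4 := s3 u w hu h3 (congrArg Prod.fst (h.inj e)).symm v
  refine (mem_zpowers_iff.1 (?_ : φ (v, w) ∈ zpowers (φ (v, w) ^ 4))).elim fun k hk =>
    hk ▸ zpow_mem (show _ ∈ Jh h.toMdl from ⟨(pw (v, w) 4).1, by rw [md_pw h.toMdl, ← h4]⟩) k
  rw [mem_zpowers_pow_iff]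
  exact ((Nat.Coprime.pow_right n (by norm_num)).coprime_dvd_right
    (orderOf_dvd_of_pow_eq_one (congrArg Subtype.val hn)))

theorem split {u : V27} (hu : u ≠ 0) (h3 : kap u ≠ 3) : ∃ K, Spl K (φ (u, 0)) := by
  let C : Subgroup G := centralizer {φ (u, 0)}
  have hC : ∀ {g}, g ∈ C ↔ g * φ (u, 0) = φ (u, 0) * g := mem_centralizer_singleton_iff
  have hJ : Jh h.toMdl ≤ C := fun a ha => hC.2 (Jh_comm h.toMdl ha ⟨_, rfl⟩)
  obtain ⟨P, hP⟩ := ((pg_Jh h.toMdl).comap_subtype (K := C)).exists_le_sylow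
  have hPJ := h.inJ hu h3 (P.isPGroup'.map C.subtype)
    (fun u => ⟨⟨_, hJ ⟨u, rfl⟩⟩, hP ⟨u, rfl⟩, rfl⟩) (map_subtype_le _)
  choose ψ hψ using fun x : P => hPJ ⟨x, x.2, rfl⟩
  obtain ⟨l, hl⟩ : ∃ l : V27 →+ ZMod 3, l u ≠ 0 := by
    by_contra hcon
    push Not at hcon
    exact hu (Prod.ext (hcon (.fst _ _)) (Prod.ext (hcon ((AddMonoidHom.fst _ _).comp (.snd _ _)))
      (hcon ((AddMonoidHom.snd _ _).comp (.snd _ _)))))
  let τ := MonoidHom.transfer (H := (P : Subgroup C)) (MonoidHom.mk'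
    (fun x => Multiplicative.ofAdd (l (ψ x))) fun x y => by
      rw [← ofAdd_add, ← map_add]
      congr 2
      refine congrArg Prod.fst (h.inj (?_ : φ (_, 0) = φ (_, 0)))
      rw [md_add' h.toMdl, hψ, hψ, hψ]; rfl)
  let j : C := ⟨φ (u, 0), hC.2 rfl⟩
  have hj : τ j ≠ 1 := by
    have key : ∀ (k : ℕ) (g : C), g⁻¹ * j ^ k * g ∈ (P : Subgroup C) → g⁻¹ * j ^ k * g = j ^ k :=
      fun k g _ => by
        rw [mul_assoc, ← ((show Commute g j from Subtype.ext (hC.1 g.2)).pow_right k).eq]; simp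
    rw [MonoidHom.transfer_eq_pow _ j key, MonoidHom.mk'_apply, Ne, ofAdd_eq_one,
      show ψ _ = (P : Subgroup C).index • u from congrArg Prod.fst (h.inj (a₁ := (_, 0))
        (a₂ := (_, 0)) ((hψ _).trans ((md_add h.toMdl).nsmul _ u).symm)), map_nsmul, nsmul_eq_mul,
      mul_eq_zero, ZMod.natCast_eq_zero_iff]
    exact fun e => e.elim P.not_dvd_index hl
  have hm : ∀ c : C, τ c = 1 → (c : G) ∈ τ.ker.map C.subtype := fun c hc => ⟨c, hc, rfl⟩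
  refine ⟨τ.ker.map C.subtype, map_subtype_le _, fun ⟨c, hc, e⟩ => hj ?_, fun g hg => ?_,
    fun g n hg hn hc => hm ⟨g, hC.2 hg⟩ ?_, fun g g' hg hg' => hm
      (⟨g, hC.2 hg⟩ * ⟨g', hC.2 hg'⟩ * (⟨g, hC.2 hg⟩)⁻¹ * (⟨g', hC.2 hg'⟩)⁻¹)
      (by simp only [map_mul, map_inv]; simp)⟩
  · rwa [← show c = j from Subtype.ext e]
  · obtain ⟨i, hi⟩ : ∃ i : Fin 3, τ ⟨g, hC.2 hg⟩ * τ j ^ i.val = 1 := z1 _ hj _
    exact ⟨i, hm (⟨g, hC.2 hg⟩ * j ^ i.val) (by simpa using hi)⟩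
  · have h1 : τ ⟨g, hC.2 hg⟩ ^ n = 1 := by
      rw [← map_pow, show (⟨g, hC.2 hg⟩ : C) ^ n = 1 from Subtype.ext hn, map_one]
    have h2 : τ ⟨g, hC.2 hg⟩ ^ 3 = 1 := z2 _
    simpa [hc.gcd_eq_one] using pow_gcd_eq_one.2 ⟨h1, h2⟩

end Hn

end H58.N9
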