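import Cfsg.Agent.Lib.A9.Loc
import Cfsg.Agent.Lib.A8.Sc

/-! The centralisers of the four-groups of `A₆`. -/

set_option autoImplicit false
set_option synthInstance.maxSize 1024

namespace H58.N9

open Equiv Equiv.Perm H58.Cd H58.SE H53.Odd Subgroup

def g1 : P9 := swap 4 5 * swap 6 7
def w1 : P9 := swap 0 1 * swap 4 5
def k1 : P9 := swap 0 1 * swap 1 3 * (swap 2 5 * swap 5 4)
def vv (i : Fin 9) : P9 := swap i 6 * swap 7 8
def LL : List P9 := [1, swap 1 3 * swap 3 2, swap 2 4 * swap 3 5,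
  swap 0 2 * swap 2 4 * (swap 1 3 * swap 3 5), swap 1 2 * swap 7 8, swap 2 4 * swap 6 7,
  swap 1 2 * swap 2 4, swap 2 4 * swap 4 3]

theorem nz_iff {e q : P9} : nz e q ↔ invs 9 (code q) % 2 = 0 ∧
    (cm 9 (code q) (code e) = cm 9 (code e) (code q) ∨
      cm 9 (code e) (cm 9 (code q) (code e)) = code q) := by
  refine and_congr evn_iff (or_congr ?_ ?_)
  · rw [mul_inv_eq_iff_eq_mul, Cd.eq_iff, code_mul, code_mul]
  · rw [mul_inv_eq_iff_eq_mul, eq_inv_mul_iff_mul_eq, Cd.eq_iff, code_mul, code_mul]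

theorem q1 {q : P9} (h : q * a1 = a1 * q) : nz e3 q → q ^ 3 = 1 → q = 1 ∨ q = e3 ∨ q = e3⁻¹ := by
  simp only [nz_iff, Cd.eq_iff (n := 9), code_pow, code_inv]
  refine fc 9 _ (code q) ⟨a1, q, rfl, rfl, h⟩ ?_
  decide +kernel

theorem q2 {q : P9} (h : q * a1 = a1 * q) : evn q → q * e3 = e3 * q → ∀ b ∈ [u1, w1], q * b = b * q →
    ∃ i : Fin 3, q * e3 ^ i.val = 1 ∨ q * e3 ^ i.val = a1 ∨ q * e3 ^ i.val = b ∨
      q * e3 ^ i.val = a1 * b := by
  simp only [List.mem_cons, List.not_mem_nil, or_false, forall_eq_or_imp, forall_eq]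
  simp only [evn_iff, Cd.eq_iff (n := 9), code_mul, code_pow]
  refine fc 9 _ (code q) ⟨a1, q, rfl, rfl, h⟩ ?_
  decide +kernel

theorem q3 {q : P9} (h : q * e1 = e1 * q) (r s : P9) (hr : r = e3 * q * e3⁻¹) (hs : s = e3 * r * e3⁻¹) :
    evn q → (∀ w ∈ [q * q * r * s, q * q * s * r, q * r * q * s],
      ((w ^ 4) ^ 5) ^ 3 = 1 → (w ^ 4) ^ 5 = 1) →
    q * e3 = e3 * q ∨ ∃ w ∈ [q, r, s], w = vv 3 ∨ w = vv 4 ∨ w = vv 5 := by
  subst hr hs
  simp only [List.mem_cons, List.not_mem_nil, or_false, forall_eq_or_imp, forall_eq,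
    exists_eq_or_imp, exists_eq_left]
  simp only [evn_iff, Cd.eq_iff (n := 9), code_mul, code_pow, code_inv]
  refine fc 9 _ (code q) ⟨e1, q, rfl, rfl, h⟩ ?_
  decide +kernel

theorem q4 {q : P9} (h : q * a1 = a1 * q) : q * g1 = g1 * q → nz e3 q → (q * q = 1 ∨ q * q = a1) ∧
    (q * q = 1 → q ≠ 1 → ∃ k ∈ LL, (k * a1 = q * k ∨ k * g1 = q * k) ∧ q.support.card = 4 ∨
      k * s0 = q * k ∧ q.support.card = 8 ∧ q * e3 ≠ e3 * q) ∧
    (q.support.card = 4 → (q * u1 = u1 * q → q * w1 = w1 * q → q = a1 ∨ q = g1) ∧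
      ((q * g1).support.card = 8 → q = a1 ∨ q = u1 ∨ q = a1 * u1)) := by
  simp only [LL, List.mem_cons, List.not_mem_nil, or_false, exists_eq_or_imp, exists_eq_left]
  simp only [ne_eq, nz_iff, Cd.eq_iff (n := 9), code_mul, card_support]
  refine fc 9 _ (code q) ⟨a1, q, rfl, rfl, h⟩ ?_
  decide +kernel

variable {G : Type*} [Group G]

theorem not_cyc {D : Subgroup G} (h3 : ∀ d ∈ D, d ^ 3 = 1) {a b : G} (ha : a ∈ D) (hb : b ∈ D)
    (h1 : a ≠ 1) (h : ¬ (b = 1 ∨ b = a ∨ b = a⁻¹)) : ¬ IsCyclic D := fun hc => by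
  obtain ⟨c, hc⟩ := hc.exists_zpow_surjective
  have key : ∀ d : D, d = 1 ∨ d = c ∨ d = c⁻¹ := fun d =>
    (mem_zpowers_three (Subtype.ext (h3 _ c.2))).1 (hc d)
  have e1 := key ⟨a, ha⟩
  have e2 := key ⟨b, hb⟩
  simp only [Subtype.ext_iff, OneMemClass.coe_one, InvMemClass.coe_inv] at e1 e2
  rcases e1 with rfl | rfl | rfl <;> rcases e2 with rfl | rfl | rfl <;> simp at h1 h

variable {H : Subgroup G} {φ : M → G}

/-- a conjugate of a subgroup of order nine of `J` -/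
def DD (h : Mdl H mul φ) (ε : ZMod 3) (c : G) : Subgroup G where
  carrier := {g | ∃ i j, c * φ ((i, ε * i, j), 0) * c⁻¹ = g}
  one_mem' := ⟨0, 0, by rw [mul_zero, conj_eq_one_iff]; exact md_one h⟩
  mul_mem' := by
    rintro _ _ ⟨i, j, rfl⟩ ⟨k, l, rfl⟩
    exact ⟨i + k, j + l, by rw [conj_mul, ← md_add' h, mul_add]; rfl⟩
  inv_mem' := by
    rintro _ ⟨i, j, rfl⟩
    exact ⟨-i, -j, by rw [conj_inv, ← md_neg h, mul_neg]; rfl⟩

theorem DD_cube (h : Mdl H mul φ) {ε : ZMod 3} {c : G} : ∀ d ∈ DD h ε c, d ^ 3 = 1 := by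
  rintro _ ⟨i, j, rfl⟩; exact conj_cube (md_cube h _)

theorem DD_pg (h : Mdl H mul φ) {ε : ZMod 3} {c : G} : IsPGroup 3 (DD h ε c) :=
  fun d => ⟨1, Subtype.ext (by simpa using DD_cube h d d.2)⟩

variable [Finite G]

theorem Hn.dinv (h : Hn H φ) {ε : ZMod 3} {c : G} (hc : c * φ (rep 1, 0) = φ (rep 1, 0) * c)
    {X : Subgroup G} (hn : DD h.toMdl ε c ≤ normalizer (X : Set G)) (hX : (Nat.card X).Coprime 3)
    (h0 : ε = 0 → ∀ y ∈ X, y * (c * φ ((1, 0, 0), 0) * c⁻¹) = c * φ ((1, 0, 0), 0) * c⁻¹ * y →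
      y * φ (rep 1, 0) = φ (rep 1, 0) * y) :
    ∀ y ∈ X, y * φ (rep 1, 0) = φ (rep 1, 0) * y := by
  have M := h.toMdl
  have ex : c * φ (rep 1, 0) * c⁻¹ = φ (rep 1, 0) := mul_inv_eq_iff_eq_mul.2 hc
  have hx : φ (rep 1, 0) ∈ DD M ε c := ⟨0, 1, by rw [mul_zero]; exact ex⟩
  have pm1 : ∀ {y : G} {u : V27}, y * (c * φ (u, 0) * c⁻¹) = c * φ (u, 0) * c⁻¹ * y →
      y * (c * φ (-u, 0) * c⁻¹) = c * φ (-u, 0) * c⁻¹ * y := fun e => by
    rw [md_neg M, ← conj_inv]; exact (Commute.inv_right e).eq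
  refine fun y hy => mem_centralizer_singleton_iff.1 (H2.le_of_forall_centralizer_le
    (A := DD M ε c) ⟨⟨fun ⟨_, i, j, e⟩ ⟨_, k, l, e'⟩ => Subtype.ext (by
      subst e e'; exact SE.conj_comm (md_JJ M _ _))⟩⟩
    (not_cyc (DD_cube M) (a := c * φ ((0, ε * 0, 1), 0) * c⁻¹) ⟨0, 1, rfl⟩ ⟨1, 0, rfl⟩
      (conj_ne_one (md_ne M (by simp))) (by
        rw [conj_inv, conj_eq_one_iff]
        simp only [← md_neg M, mul_left_inj, mul_right_inj, ← md_one M, M.inj.eq_iff]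
        clear * -; revert ε; decide)) hn
    (by obtain ⟨n, hn⟩ := (DD_pg M (ε := ε) (c := c)).exists_card_eq
        rw [hn]; exact (Nat.Coprime.pow_right n hX).symm) ?_ hy)
  rintro _ ⟨i, j, rfl⟩ h1 y ⟨hy, hyd⟩
  replace hyd := mem_centralizer_singleton_iff.1 hyd
  rw [mem_centralizer_singleton_iff]
  have hu : ((i, ε * i, j) : V27) ≠ 0 := fun e => h1 (by rw [e, conj_eq_one_iff]; exact md_one M)
  rcases (show 2 ≤ kap (i, ε * i, j) ∨ (i, ε * i, j) = rep 1 ∨ -(i, ε * i, j) = rep 1 ∨ ε = 0 ∧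
      ((i, ε * i, j) = ((1, 0, 0) : V27) ∨ -(i, ε * i, j) = ((1, 0, 0) : V27)) by
    clear * - hu; revert ε i j; decide +kernel) with e | e | e | ⟨e, e' | e'⟩
  · have h2 := Jh_conj M (h.cyz e (g := c⁻¹ * y * c) (comm_of_conj (g := c) (by
      simpa [mul_assoc] using hyd))) (J_mem M (rep 1))
    have h3 : y * φ (rep 1, 0) * y⁻¹ * (φ (rep 1, 0))⁻¹ = 1 := St.eq_one_of_cube hX
      (by simpa [mul_assoc] using mul_mem hy ((mem_normalizer_iff.1 (hn hx) _).1 (inv_mem hy))) (by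
        have := conj_cube (g := c) (Jh_cube M (mul_mem h2 (inv_mem (J_mem M (rep 1)))))
        rw [← ex]; simpa [mul_assoc] using this)
    rwa [mul_inv_eq_one, mul_inv_eq_iff_eq_mul] at h3
  · rwa [e, ex] at hyd
  · simpa only [e, ex] using pm1 hyd
  · exact h0 e y hy (e' ▸ hyd)
  · exact h0 e y hy (e' ▸ pm1 hyd)

namespace Lc

variable {m : PH P9 G} (l : Lc φ m e3)
include l

omit [Finite G] in
theorem fx : m.f e3 = φ (rep 1, 0) :=
  (congrArg m.f (by decide +kernel)).trans (l.ag (rep 1, 0) (l.S.2 (by decide +kernel)))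

omit [Finite G] in
theorem three {z : G} (hz : z ∈ m.range) (hc : z * m.f a1 = m.f a1 * z) (h3 : z ^ 3 = 1) :
    z = 1 ∨ z = m.f e3 ∨ z = (m.f e3)⁻¹ := by
  obtain ⟨q, hq, rfl⟩ := m.mem_range.1 hz
  rcases q1 ((m.comm_iff hq (l.S.2 (by decide +kernel))).1 hc) (l.S.1 hq)
    ((m.pow_eq_one_iff hq 3).1 h3) with rfl | rfl | rfl
  exacts [Or.inl m.one, Or.inr (Or.inl rfl), Or.inr (Or.inr (m.inv (l.S.2 (by decide +kernel))))]

omit [Finite G] in
theorem ufin (g : G) (hc : g * m.f e3 * g⁻¹ * m.f a1 = m.f a1 * (g * m.f e3 * g⁻¹))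
    (hg : g * m.f e3 * g⁻¹ ∈ m.range) : g ∈ m.range :=
  have he : e3 ∈ m.S := l.S.2 (by decide +kernel)
  l.rng g ((l.three hg hc (conj_cube ((m.pow_eq_one_iff he 3).2 (by decide +kernel)))).resolve_left
    (conj_ne_one ((m.eq_one_iff he).not.2 (by decide +kernel))))

theorem not_conj (h : Hn H φ) (g : G) : g * m.f a1 * g⁻¹ ≠ φ (col 12) := fun e => by
  have M := h.toMdl
  have ha : a1 ∈ m.S := l.S.2 (by decide +kernel)
  have he : e3 ∈ m.S := l.S.2 (by decide +kernel)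
  have c0 : m.f e3 * m.f a1 = m.f a1 * m.f e3 := (m.comm_iff he ha).2 (by decide +kernel)
  have c1 : g⁻¹ * φ (rep 2, 0) * g⁻¹⁻¹ * m.f a1 = m.f a1 * (g⁻¹ * φ (rep 2, 0) * g⁻¹⁻¹) :=
    comm_of_conj (g := g) (by
      rw [e]; simpa [mul_assoc] using (h.act_comm (p := col 12).2 (by decide +kernel)).symm)
  have cc : ∀ {k z : G}, k ∈ centralizer {m.f a1} → z * m.f a1 = m.f a1 * z →
      k * z * k⁻¹ * m.f a1 = m.f a1 * (k * z * k⁻¹) := fun {k z} hk hz => by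
    simpa [mem_centralizer_singleton_iff.1 hk] using SE.conj_comm (g := k) hz
  obtain ⟨k, hk, hk'⟩ := exists_conj_mem (p := 3) (K := centralizer {m.f a1})
    (mem_centralizer_singleton_iff.2 c0) (m.f_mem he) (l.fx ▸ md_cube M _)
    (fun g hg => l.ufin g (cc hg c0)) (mem_centralizer_singleton_iff.2 c1) (conj_cube (md_cube M _))
  have := l.three hk' (cc hk c1) (conj_cube (conj_cube (md_cube M _)))
  rw [l.fx, ← md_neg M, ← md_one M, show k * (g⁻¹ * φ (rep 2, 0) * g⁻¹⁻¹) * k⁻¹ =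
    k * g⁻¹ * φ (rep 2, 0) * (k * g⁻¹)⁻¹ by group] at this
  rcases this with e | e | e <;> exact absurd (h.kap_eq e) (by decide)

theorem cen_le (h : Hn H φ) {b k : P9} (hb : b ∈ [u1, w1]) (hk : k0 k) {ε : ZMod 3}
    (hn : ∀ i j, ∀ v ∈ [a1, b], ∃ w ∈ [a1, b, a1 * b],
      v * (k * pm ((i, ε * i, j), 0) * k⁻¹) = k * pm ((i, ε * i, j), 0) * k⁻¹ * w)
    (h0 : ε = 0 → ∀ X ≤ centralizer {m.f a1, m.f b}, DD h.toMdl ε (m.f k) ≤ normalizer (X : Set G) →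
      (Nat.card X).Coprime 3 → ∀ y ∈ X, y * (m.f k * φ ((1, 0, 0), 0) * (m.f k)⁻¹) =
        m.f k * φ ((1, 0, 0), 0) * (m.f k)⁻¹ * y → y * φ (rep 1, 0) = φ (rep 1, 0) * y)
    {g : G} (h1 : g * m.f a1 = m.f a1 * g) (h2 : g * m.f b = m.f b * g) : g ∈ m.range := by
  have M := h.toMdl
  have ha : a1 ∈ m.S := l.S.2 (by decide +kernel)
  have he : e3 ∈ m.S := l.S.2 (by decide +kernel)
  obtain ⟨b1, b2, b3, b4, b5, b6⟩ : nz e3 b ∧ b * b = 1 ∧ a1 * b = b * a1 ∧ b ≠ 1 ∧ a1 ≠ b ∧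
      e3 * b = b * e3 := by
    simp only [List.mem_cons, List.not_mem_nil, or_false] at hb
    rcases hb with rfl | rfl <;> decide +kernel
  have hb' := l.S.2 b1
  have ck : k * e3 = e3 * k := mem_centralizer_singleton_iff.1 (gen_xk (F := centralizer {e3})
    (fun i => mem_centralizer_singleton_iff.2 (by clear * -; revert i; decide +kernel)) (mem_K0.2 hk))
  have hk' : k ∈ m.S := l.S.2 ⟨hk.1, Or.inl (mul_inv_eq_iff_eq_mul.2 ck)⟩
  let V := four (m.f a1) (m.f b) ((m.mul_eq_one_iff ha ha).2 (by decide +kernel))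
    ((m.mul_eq_one_iff hb' hb').2 b2) ((m.comm_iff ha hb').2 b3)
  let K : Subgroup G := centralizer {m.f a1, m.f b}
  have hK : ∀ {g}, g ∈ K ↔ g * m.f a1 = m.f a1 * g ∧ g * m.f b = m.f b * g := by
    simp [K, mem_centralizer_iff, eq_comm]
  have hcen : ∀ v ∈ V, ∀ k ∈ K, k * v = v * k := by
    rintro _ (rfl | rfl | rfl | rfl) k hk
    exacts [by simp, (hK.1 hk).1, (hK.1 hk).2,
      by rw [← mul_assoc, (hK.1 hk).1, mul_assoc, (hK.1 hk).2, mul_assoc]]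
  have hsq : ∀ v ∈ V, v * v = 1 := by
    rintro _ (rfl | rfl | rfl | rfl)
    exacts [by simp, (m.mul_eq_one_iff ha ha).2 (by decide +kernel), (m.mul_eq_one_iff hb' hb').2 b2,
      by rw [← m.mul ha hb', m.mul_eq_one_iff (mul_mem ha hb') (mul_mem ha hb'), mul_assoc,
        ← mul_assoc b, ← b3, mul_assoc, b2, mul_one]; decide +kernel]
  have hVK : V ≤ K := fun v hv => hK.2 ⟨(hcen v hv _ (hK.2 ⟨rfl, (m.comm_iff ha hb').2 b3⟩)).symm,
    (hcen v hv _ (hK.2 ⟨((m.comm_iff ha hb').2 b3).symm, rfl⟩)).symm⟩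
  have hx : m.f e3 ∈ K := hK.2 ⟨(m.comm_iff he ha).2 (by decide +kernel), (m.comm_iff he hb').2 b6⟩
  have x3 : m.f e3 ^ 3 = 1 := l.fx ▸ md_cube M _
  have hC : ∀ k ∈ K, k * m.f e3 = m.f e3 * k → ∃ i : ℕ, k * m.f e3 ^ i ∈ V := fun k hk e => by
    obtain ⟨q, hq, rfl⟩ := m.mem_range.1 (l.rng k (Or.inl (mul_inv_eq_iff_eq_mul.2 e)))
    obtain ⟨i, hi⟩ := q2 ((m.comm_iff hq ha).1 (hK.1 hk).1) (l.S.1 hq).1 ((m.comm_iff hq he).1 e) b hb
      ((m.comm_iff hq hb').1 (hK.1 hk).2)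
    refine ⟨i, ?_⟩
    rw [← m.pow he, ← m.mul hq (pow_mem he _), mem_four, ← m.mul ha hb', ← m.one]
    exact hi.imp (congrArg _) (Or.imp (congrArg _) (Or.imp (congrArg _) (congrArg _)))
  have hD : DD M ε (m.f k) ≤ normalizer (K : Set G) := by
    rintro _ ⟨i, j, rfl⟩
    have hp : pm ((i, ε * i, j), 0) ∈ m.S := l.S.2 (by clear * -; revert ε i j; decide +kernel)
    rw [← l.ag _ hp, ← m.conj hk' hp]
    have hq := mul_mem (mul_mem hk' hp) (inv_mem hk')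
    refine mem_normalizer_of_le fun y hy => ?_
    have key : ∀ v ∈ [a1, b], v ∈ m.S → m.f (k * pm ((i, ε * i, j), 0) * k⁻¹) * y *
        (m.f (k * pm ((i, ε * i, j), 0) * k⁻¹))⁻¹ * m.f v = m.f v *
        (m.f (k * pm ((i, ε * i, j), 0) * k⁻¹) * y * (m.f (k * pm ((i, ε * i, j), 0) * k⁻¹))⁻¹) := by
      intro v hv hv'
      obtain ⟨w, hw, e⟩ := hn i j v hv
      generalize k * pm ((i, ε * i, j), 0) * k⁻¹ = q at *
      obtain ⟨w1, w2⟩ : w ∈ m.S ∧ m.f w ∈ V := by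
        simp only [List.mem_cons, List.not_mem_nil, or_false] at hw
        rcases hw with rfl | rfl | rfl
        exacts [⟨ha, Or.inr (Or.inl rfl)⟩, ⟨hb', Or.inr (Or.inr (Or.inl rfl))⟩,
          ⟨mul_mem ha hb', Or.inr (Or.inr (Or.inr (m.mul ha hb')))⟩]
      rw [← (m.conj_iff hq w1 hv').2 (by rw [← e]; simp)]
      exact SE.conj_comm (hcen _ w2 y hy)
    exact hK.2 ⟨key _ (by simp) ha, key _ (by simp) hb'⟩
  have hX : ∀ X ≤ K, DD M ε (m.f k) ≤ normalizer (X : Set G) → (Nat.card X).Coprime 3 → X ≤ V := by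
    intro X h1 h2 h3 y hy
    have e := h.dinv (l.fx ▸ (m.comm_iff hk' he).2 ck) h2 h3 (fun e => h0 e X h1 h2 h3) y hy
    rw [← l.fx] at e
    obtain ⟨i, hi⟩ := hC y (h1 hy) e
    have e1 := hsq _ hi
    have c : Commute y (m.f e3 ^ i) := (show Commute y _ from e).pow_right i
    rw [← pow_two, c.mul_pow, mul_eq_one_iff_eq_inv] at e1
    have e2 : (m.f e3 ^ i) ^ 3 = 1 := by rw [← pow_mul, mul_comm, pow_mul, x3, one_pow]
    have e3 := St.eq_one_of_cube h3 (pow_mem hy 2) (by rw [e1, inv_pow, pow_right_comm, e2]; simp)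
    rw [e1, inv_eq_one] at e3
    rwa [show m.f N9.e3 ^ i = 1 by simpa using pow_gcd_eq_one.2 ⟨e2, e3⟩, mul_one] at hi
  have hV4 : Nat.card V = 4 := card_four _ _ _ ((m.eq_one_iff ha).not.2 (by decide +kernel))
    ((m.eq_one_iff hb').not.2 b4) ((m.eq_iff ha hb').not.2 b5)
  have hv1 : ∀ v ∈ V, ∀ z ∈ K, z ^ 3 = 1 → (v * z) ^ 3 = 1 → v = 1 := fun v hv z hz z3 e => by
    rwa [(show Commute v z from (hcen v hv z hz).symm).mul_pow, z3, mul_one, pow_succ, pow_two,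
      hsq v hv, one_mul] at e
  rcases scD (DD_pg M) hD hVK hV4 hsq hcen hx x3 ((m.eq_one_iff he).not.2 (by decide +kernel)) hC
    with ⟨X, a0, a1, a2, a3⟩ | ⟨X, a0, a1, a2, -, a3⟩ | ⟨X, a0, a1, a2⟩
  · refine l.rng g ((a3 g (hK.2 ⟨h1, h2⟩)).imp (fun e => mul_inv_eq_one.1 ?_)
      fun e => mul_eq_one_iff_eq_inv.1 ?_)
    · exact hv1 _ (hX X a0 a1 a2 e) _ hx x3 (by rw [inv_mul_cancel_right]; exact conj_cube x3)
    · exact hv1 _ (hX X a0 a1 a2 e) _ (inv_mem hx) (by rw [inv_pow, x3, inv_one])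
        (by rw [mul_inv_cancel_right]; exact conj_cube x3)
  · exact absurd (hX X a0 a1 a2) a3
  · have := card_le_of_le (hX X a0 a1 (by rw [a2]; norm_num))
    omega

end Lc

end H58.N9
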