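import Cfsg.Agent.Lib.A9.Srch

/-! A group containing `3³ : S₄` together with the centralisers of the elements of `3³`. -/

set_option autoImplicit false
set_option synthInstance.maxSize 1024
set_option linter.unusedSectionVars false

namespace H58.N9

open Cfsg H53.Odd Subgroup
open scoped ComplexConjugate

theorem lt9 {p : ℕ → Prop} : (∀ k < 9, p k) ↔
    p 0 ∧ p 1 ∧ p 2 ∧ p 3 ∧ p 4 ∧ p 5 ∧ p 6 ∧ p 7 ∧ p 8 :=
  ⟨fun h => ⟨h 0 (by omega), h 1 (by omega), h 2 (by omega), h 3 (by omega), h 4 (by omega),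
    h 5 (by omega), h 6 (by omega), h 7 (by omega), h 8 (by omega)⟩,
    fun h k hk => by interval_cases k <;> tauto⟩

variable {G : Type*} [Group G] [Finite G] {H : Subgroup G} {φ : M → G}

/-- the functionals -/
noncomputable def Y (φ : M → G) (s : ℂ) (k : ℕ) (χ : G → ℂ) : ℂ :=
  (if k = 8 then s / 3 else 1) * χ (φ (col (if k = 8 then 2 else k))) +
    (if k = 2 then 1 else if k = 8 then -s / 3 else 0) * χ (φ (col 8))

theorem avgJ (h : Mdl H mul φ) {χ : G → ℂ} (hχ : IsGeneralizedCharacter G χ) {V : Type*}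
    [AddGroup V] [Fintype V] (ι : V → V27) (hι : ∀ a b, ι (a + b) = ι a + ι b) (a b c n : ℕ)
    (hc : (∀ k < 4, (Finset.univ.filter fun u => kap (ι u) = k).card = [1, a, b, c].getD k 0) ∧
      Fintype.card V = n) :
    ∃ m : ℤ, χ 1 + a * χ (φ (col 0)) + b * χ (φ (col 3)) + c * χ (φ (col 5)) = n * m := by
  obtain ⟨m, hm⟩ := AH.avg (f := fun u => φ (ι u, 0)) (fun a b => by simp only [hι]; exact md_add h _ _) hχ
  refine ⟨m, ?_⟩
  rw [Finset.sum_congr rfl (g := fun u => χ (φ (rep (kap (ι u)), 0))) fun u _ => by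
    obtain ⟨w, hw⟩ := t4 (ι u)
    exact (H6.classFun_of_isConj (H6.gen_isClassFunction hχ)
      (isConj_iff.2 ⟨_, (md_cj h (0, w) _).trans (by rw [hw])⟩)).symm,
    sum_kappa (fun u => kap (ι u)) 4 (fun u => (by decide : ∀ u, kap u < 4) _)
      fun k => χ (φ (rep k, 0)), Finset.sum_congr rfl fun k hk => by
        rw [hc.1 k (Finset.mem_range.1 hk)], hc.2] at hm
  simp only [Finset.sum_range_succ, Finset.sum_range_zero, List.getD_cons_succ, List.getD_cons_zero,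
    show φ (rep 0, 0) = 1 from md_one h] at hm
  rw [← hm]
  simp [col]

theorem lab (h : Mdl H mul φ) {χ : G → ℂ} (hχ : IsGeneralizedCharacter G χ) (k n : ℕ) (l : List ℕ)
    (hl : ∀ i < n, ∃ r, mul r (pw (col k) i) = mul (col (l.getD i 0)) r) (F : ℕ → ℂ) :
    ∑ i ∈ Finset.range n, χ (φ (col k) ^ i) * F i =
      ∑ i ∈ Finset.range n, χ (φ (col (l.getD i 0))) * F i :=
  Finset.sum_congr rfl fun i hi => by
    obtain ⟨r, hr⟩ := hl i (Finset.mem_range.1 hi)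
    rw [md_pw h, H6.classFun_of_isConj (H6.gen_isClassFunction hχ) (h.conj_of r hr)]

theorem int9 (h : Mdl H mul φ) {χ : G → ℂ} (hχ : IsGeneralizedCharacter G χ) (p : M)
    (hp : pw p 9 = 0 ∧ p ≠ 0 ∧ ∀ m < 9, m % 3 ≠ 0 → ∃ r, mul r p = mul (pw p m) r) :
    ∃ z : ℤ, χ (φ p) = z := by
  have h9 := (md_pw1 h).2 hp.1
  refine int_of_conj hχ fun m hm => ?_
  have h3 : 3 ∣ orderOf (φ p) := by
    rcases (Nat.dvd_prime_pow Nat.prime_three (m := 2)).1 (orderOf_dvd_of_pow_eq_one h9) with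
      ⟨_ | k, -, e⟩
    · exact absurd (h.inj ((orderOf_eq_one_iff.1 e).trans (md_one h).symm)) hp.2.1
    · exact e ▸ dvd_pow_self 3 (by omega)
  have h4 : m % 3 ≠ 0 := fun e => by
    have := Nat.Coprime.eq_one_of_dvd (hm.coprime_dvd_right h3).symm (Nat.dvd_of_mod_eq_zero e)
    omega
  obtain ⟨r, hr⟩ := hp.2.2 (m % 9) (by omega) (by omega)
  rw [pow_eq_pow_mod m h9, md_pw h]
  exact h.conj_of r hr

theorem avg12 {x : G} (hx : x ^ 12 = 1) {ζ : ℂˣ} (hζ : ζ ^ 12 = 1) {χ : G → ℂ}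
    (hχ : IsGeneralizedCharacter G χ) (j : ℕ) : ∃ m : ℤ,
    ∑ i ∈ Finset.range 12, χ (x ^ i) * conj (ζ : ℂ) ^ (j * i % 12) = 12 * m := by
  obtain ⟨m, hm⟩ := (AH_cyc hx).avg_lin (AH_cyc (a := ζ ^ j)
    (by rw [← pow_mul, mul_comm, pow_mul, hζ, one_pow])) hχ
  rw [sum_zmod 12 fun i => χ (x ^ i) * conj (((ζ ^ j) ^ i : ℂˣ) : ℂ), ZMod.card] at hm
  refine ⟨m, Eq.trans (Finset.sum_congr rfl fun i _ => ?_) hm⟩
  rw [← pow_mul, pow_eq_pow_mod _ hζ, Units.val_pow_eq_pow_val, map_pow]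

theorem int (h : Mdl H mul φ) {ζ : ℂˣ} (hζ : ζ ^ 12 = 1) (h4 : conj (ζ : ℂ) ^ 4 = conj (ζ : ℂ) ^ 2 - 1)
    {χ : G → ℂ} (hχ : IsGeneralizedCharacter G χ) : ∀ i < 9, ∃ m : ℤ, ∑ k ∈ Finset.range 9,
      (gm cc i k : ℂ) * Y φ (2 * conj (ζ : ℂ) - conj (ζ : ℂ) ^ 3) k χ = (36 : ℤ) * m := by
  obtain ⟨d, hd⟩ := int_of_sq hχ (x := 1) (one_pow 2)
  obtain ⟨X, hX⟩ := int9 h hχ (col 0) (by decide +kernel)
  obtain ⟨Y', hY⟩ := int9 h hχ (col 3) (by decide +kernel)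
  obtain ⟨Z, hZ⟩ := int9 h hχ (col 5) (by decide +kernel)
  obtain ⟨N1, hN1⟩ := int9 h hχ (col 6) (by decide +kernel)
  obtain ⟨N2, hN2⟩ := int9 h hχ (col 7) (by decide +kernel)
  obtain ⟨a0, e0⟩ := avgJ h hχ id (fun _ _ => rfl) 6 12 8 27 (by decide +kernel)
  obtain ⟨a1, e1⟩ := avgJ h hχ (fun p : ZMod 3 × ZMod 3 => (p.1, p.2, 0)) (fun _ _ => by simp)
    4 4 0 9 (by decide +kernel)
  obtain ⟨a2, e2⟩ := avgJ h hχ (fun p : ZMod 3 × ZMod 3 => (p.1, p.1, p.2)) (fun _ _ => rfl)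
    2 2 4 9 (by decide +kernel)
  obtain ⟨a3, e3⟩ := avg_cyc ((md_pw1 h (p := col 6) (n := 9)).2 (by decide +kernel)) hχ
  obtain ⟨a4, e4⟩ := avg_cyc ((md_pw1 h (p := col 7) (n := 9)).2 (by decide +kernel)) hχ
  have l3 := lab h hχ 6 9 [9, 6, 6, 5, 6, 6, 5, 6, 6] (by decide +kernel) fun _ => 1
  have l4 := lab h hχ 7 9 [9, 7, 7, 5, 7, 7, 5, 7, 7] (by decide +kernel) fun _ => 1
  simp only [mul_one] at l3 l4
  rw [l3] at e3
  rw [l4] at e4
  have k1 := avg12 ((md_pw1 h (p := col 2)).2 (by decide +kernel)) hζ hχ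
  have k2 := avg12 ((md_pw1 h (p := col 4)).2 (by decide +kernel)) hζ hχ
  simp only [lab h hχ 2 12 [9, 2, 1, 11, 0, 8, 10, 8, 0, 11, 1, 2] (by decide +kernel)] at k1
  simp only [lab h hχ 4 12 [9, 4, 3, 12, 3, 4, 9, 4, 3, 12, 3, 4] (by decide +kernel)] at k2
  obtain ⟨b0, f0⟩ := k1 0
  obtain ⟨b1, f1⟩ := k1 1
  obtain ⟨b2, f2⟩ := k1 2
  obtain ⟨b3, f3⟩ := k1 3
  obtain ⟨b4, f4⟩ := k1 4
  obtain ⟨b6, f6⟩ := k1 6
  obtain ⟨c0, g0⟩ := k2 0
  obtain ⟨c4, g4⟩ := k2 4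
  clear k1 k2 l3 l4
  generalize conj (ζ : ℂ) = c at *
  have h5 : c ^ 5 = c ^ 3 - c := by linear_combination c * h4
  have h6 : c ^ 6 = -1 := by linear_combination (c ^ 2 + 1) * h4
  have h7 : c ^ 7 = -c := by linear_combination c * h6
  have h8 : c ^ 8 = -c ^ 2 := by linear_combination c ^ 2 * h6
  have h9 : c ^ 9 = -c ^ 3 := by linear_combination c ^ 3 * h6
  have h10 : c ^ 10 = 1 - c ^ 2 := by linear_combination c ^ 4 * h6 - h4
  have h11 : c ^ 11 = c - c ^ 3 := by linear_combination c * h10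
  simp only [Finset.sum_range_succ, Finset.sum_range_zero, List.getD_cons_succ, List.getD_cons_zero,
    Nat.reduceMul, Nat.reduceMod, Nat.zero_mod, mul_zero, zero_mul, pow_zero, pow_one, h4, h5, h6,
    h7, h8, h9, h10, h11, show φ (col 9) = 1 from md_one h, hd, hX, hY, hZ, hN1, hN2]
    at e0 e1 e2 e3 e4 f0 f1 f2 f3 f4 f6 g0 g4
  push_cast at e0 e1 e2 e3 e4
  have r1 : χ (φ (col 1)) = (2 * (b0 - b4 + (b6 - b2)) - X : ℤ) := by
    push_cast; linear_combination (f0 - f4 + f6 - f2) / 6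
  have r2 : χ (φ (col 2)) + χ (φ (col 8)) = (2 * (b0 - b4 - (b6 - b2)) : ℤ) := by
    push_cast; linear_combination (f0 - f4 - f6 + f2) / 6
  have r4 : χ (φ (col 4)) = (2 * (c0 - c4) - Y' : ℤ) := by
    push_cast; linear_combination (g0 - g4) / 6
  have r8 : (2 * c - c ^ 3) / 3 * χ (φ (col 2)) + -(2 * c - c ^ 3) / 3 * χ (φ (col 8)) =
      (4 * (b1 - b3) + X - (2 * (b0 - b4 + (b6 - b2)) - X) : ℤ) := by
    rw [Int.cast_sub, ← r1]; push_cast; linear_combination (f1 - f3) / 3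
  have q0 : d + 6 * X + 12 * Y' + 8 * Z = 27 * a0 := by
    have : (d + 6 * X + 12 * Y' + 8 * Z : ℂ) = 27 * a0 := e0
    exact_mod_cast this
  have q1 : d + 4 * X + 4 * Y' = 9 * a1 := by
    have : (d + 4 * X + 4 * Y' : ℂ) = 9 * a1 := by linear_combination e1
    exact_mod_cast this
  have q2 : d + 2 * X + 2 * Y' + 4 * Z = 9 * a2 := by
    have : (d + 2 * X + 2 * Y' + 4 * Z : ℂ) = 9 * a2 := e2
    exact_mod_cast this
  have q3 : d + 2 * Z + 6 * N1 = 9 * a3 := by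
    have : (d + 2 * Z + 6 * N1 : ℂ) = 9 * a3 := by linear_combination e3
    exact_mod_cast this
  have q4 : d + 2 * Z + 6 * N2 = 9 * a4 := by
    have : (d + 2 * Z + 6 * N2 : ℂ) = 9 * a4 := by linear_combination e4
    exact_mod_cast this
  have key : ∀ z : ℤ, (36 : ℤ) ∣ z → ∃ m : ℤ, (z : ℂ) = (36 * m : ℤ) := by
    rintro _ ⟨m, rfl⟩
    exact ⟨m, rfl⟩
  clear e0 e1 e2 e3 e4 f0 f1 f2 f3 f4 f6 g0 g4
  generalize b0 - b4 = u at *
  generalize b6 - b2 = v at *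
  rw [lt9]
  simp only [Finset.sum_range_succ, Finset.sum_range_zero, List.getD_cons_succ, List.getD_cons_zero,
    cc, Y, gm, g, Nat.reduceEqDiff, if_true, if_false, one_mul, zero_mul, add_zero,
    OfNat.zero_ne_ofNat, OfNat.one_ne_ofNat, hX, hY, hZ, hN1, hN2, r1, r2, r4, r8, ← Int.cast_mul, ← Int.cast_add, zero_add]
  refine ⟨key _ ?_, key _ ?_, key _ ?_, key _ ?_, key _ ?_, key _ ?_, key _ ?_, key _ ?_,
    key _ ?_⟩ <;> omega

theorem inv_eq' {n : ℚ} {p q a b : ℤ} (hn : n ≠ 0) (hp : p ≠ 0) (hq : q ≠ 0)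
    (h : n * ((a : ℚ) / p - b / q) = 0) : a * q = b * p := by
  have hp' : (p : ℚ) ≠ 0 := by exact_mod_cast hp
  have hq' : (q : ℚ) ≠ 0 := by exact_mod_cast hq
  rw [mul_eq_zero, or_iff_right hn, sub_eq_zero, div_eq_div_iff hp' hq'] at h
  exact_mod_cast h

set_option maxHeartbeats 1000000 in
theorem fin {N : ℕ} (g0 : 0 < N) {Q : List (List ℤ)} (hQ : Q ∈ Qs) {ds : List ℤ}
    (hP : List.Forall₂ (fun w d => d ≠ 0 ∧ 27 ∣ d + 6 * g w 0 + 12 * g w 3 + 8 * g w 5) Q ds)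
    (hl : ∀ k < 9, g [1, 1, 2, 1, 1, 1, 1, 1, 0] k + linS Q ds k = 0)
    (hb : 1 + sqS ds ≤ (648 * N : ℕ))
    (E1 : ((23328 : ℕ) : ℚ) = (648 * N : ℕ) * (1 + cubS Q ds 0 3 0))
    (E2 : ((0 : ℕ) : ℚ) = (648 * N : ℕ) * (1 + cubS Q ds 0 5 0))
    (E3 : ((11664 : ℕ) : ℚ) = (648 * N : ℕ) * (1 + cubS Q ds 3 3 0))
    (E4 : ((17496 : ℕ) : ℚ) = (648 * N : ℕ) * (1 + cubS Q ds 3 5 0))
    (E5 : ((26244 : ℕ) : ℚ) = (648 * N : ℕ) * (1 + cubS Q ds 5 5 0))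
    (E6 : ((17496 : ℕ) : ℚ) = (648 * N : ℕ) * (1 + cubS Q ds 3 5 3)) : N = 1 := by
  have n0 : ((648 * N : ℕ) : ℚ) ≠ 0 := by positivity
  rw [lt9] at hl
  simp only [Qs, List.mem_cons, List.not_mem_nil, or_false] at hQ
  rcases hQ with rfl | rfl | rfl | rfl
  · rcases hP with _ | ⟨n0, _ | ⟨n1, _ | ⟨n2, _ | ⟨n3, _ | ⟨n4, _ | ⟨n5, _ | ⟨n6, _ | ⟨n7, _ | ⟨n8,
      _ | ⟨n9, _ | ⟨n10, _ | _⟩⟩⟩⟩⟩⟩⟩⟩⟩⟩⟩
    simp only [linS, g, List.zipWith_cons_cons, List.zipWith_nil_right, List.sum_cons,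
      List.sum_nil, List.getD_cons_succ, List.getD_cons_zero] at hl
    exact absurd (by linarith [hl.2.1, hl.2.2.1, hl.2.2.2.2.2.2.2.2]) n7.1
  · rcases hP with _ | ⟨n0, _ | ⟨n1, _ | ⟨n2, _ | ⟨n3, _ | ⟨n4, _ | ⟨n5, _ | ⟨n6, _ | ⟨n7, _ | ⟨n8,
      _ | ⟨n9, _ | ⟨n10, _ | ⟨n11, _ | ⟨n12, _ | _⟩⟩⟩⟩⟩⟩⟩⟩⟩⟩⟩⟩⟩
    rename_i x0 x1 x2 x3 x4 x5 x6 x7 x8 x9 x10 x11 x12
    simp only [linS, cubS, sqS, g, List.zipWith_cons_cons, List.zipWith_nil_right, List.sum_cons,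
      List.sum_nil, List.getD_cons_succ, List.getD_cons_zero, List.map_cons, List.map_nil] at *
    obtain ⟨l0, l1, l2, l3, l4, l5, l6, l7, l8⟩ := hl
    obtain rfl : x11 = -x12 := by linarith
    push_cast at E3 E4 E6 hb
    have a0 : (x0 : ℚ) ≠ 0 := by exact_mod_cast n0.1
    have a3 : (x3 : ℚ) ≠ 0 := by exact_mod_cast n3.1
    have a4 : (x4 : ℚ) ≠ 0 := by exact_mod_cast n4.1
    have a12 : (x12 : ℚ) ≠ 0 := by exact_mod_cast n12.1
    have I2 : 6 * N * ((1 : ℚ) / x0 + 1 / x4) = -1 := by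
      linear_combination (-E3 - E4 + 2 * E6) / 5832
    have I3 : 8 * N * ((1 : ℚ) / x3 - 2 / x12) = -3 := by
      simp only [div_neg] at E3 E4
      linear_combination (E4 - E3) / 1944
    field_simp at I2 I3
    have := num (g := N) (p := -x0) (q := -x4) (e0 := -x3) (e1 := x12) (by positivity)
      (by have : (6 * N * (-x0 + -x4) : ℚ) = -x0 * -x4 := by linear_combination -I2
          exact_mod_cast this)
      (by have : (8 * N * (x12 + 2 * -x3) : ℚ) = 3 * -x3 * x12 := by linear_combination I3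
          exact_mod_cast this)
      (by linarith) (by clear * - n0; omega) (by clear * - n4; omega) (by clear * - n12; omega)
      (by clear * - hb; nlinarith [sq_nonneg x1, sq_nonneg x2, sq_nonneg x5, sq_nonneg x6, sq_nonneg x7,
        sq_nonneg x8, sq_nonneg x9, sq_nonneg x10])
    exact_mod_cast this
  · rcases hP with _ | ⟨m0, _ | ⟨n1, _ | ⟨n2, _ | ⟨n3, _ | ⟨n4, _ | ⟨n5, _ | ⟨n6, _ | ⟨n7, _ | ⟨n8,
      _ | ⟨n9, _ | ⟨n10, _ | ⟨n11, _ | _⟩⟩⟩⟩⟩⟩⟩⟩⟩⟩⟩⟩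
    rename_i x0 x1 x2 x3 x4 x5 x6 x7 x8 x9 x10 x11
    simp only [linS, cubS, sqS, g, List.zipWith_cons_cons, List.zipWith_nil_right, List.sum_cons,
      List.sum_nil, List.getD_cons_succ, List.getD_cons_zero, List.map_cons, List.map_nil] at *
    push_cast at E1 E2 E3 E4 E5
    have := inv_eq' (a := 3) (b := 2) n0 m0.1 n1.1 (by
      push_cast; linear_combination (E1 + 2 * E2 - 2 * E3 - 3 * E4 + 2 * E5) / 27)
    clear * - this m0 n1
    omega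
  · rcases hP with _ | ⟨n0, _ | ⟨n1, _ | ⟨n2, _ | ⟨n3, _ | ⟨n4, _ | ⟨n5, _ | ⟨n6, _ | ⟨n7, _ | ⟨n8,
      _ | ⟨n9, _ | ⟨n10, _ | ⟨n11, _ | _⟩⟩⟩⟩⟩⟩⟩⟩⟩⟩⟩⟩
    simp only [linS, g, List.zipWith_cons_cons, List.zipWith_nil_right, List.sum_cons,
      List.sum_nil, List.getD_cons_succ, List.getD_cons_zero] at hl
    exact absurd (by linarith [hl.2.1, hl.2.2.1, hl.2.2.2.2.2.2.2.2]) n8.1

theorem Hy.top (h : Hy H φ) : H = ⊤ := by
  have hm := h.toMdl
  obtain ⟨ζ, hζ⟩ : ∃ ζ : ℂˣ, IsPrimitiveRoot ζ 12 :=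
    ⟨((Complex.isPrimitiveRoot_exp 12 (by norm_num)).isUnit (by norm_num)).unit,
      (Complex.isPrimitiveRoot_exp 12 (by norm_num)).isUnit_unit (by norm_num)⟩
  have h4 : conj (ζ : ℂ) ^ 4 = conj (ζ : ℂ) ^ 2 - 1 := by
    have hζ' : IsPrimitiveRoot (conj (ζ : ℂ)) 12 :=
      (IsPrimitiveRoot.coe_units_iff.2 hζ).map_of_injective (RingHom.injective _)
    have h6 := (hζ'.pow (by norm_num) (show 12 = 6 * 2 from rfl)).eq_neg_one_of_two_right
    have h7 := hζ'.pow_ne_one_of_pos_of_lt (l := 4) (by norm_num) (by norm_num)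
    generalize conj (ζ : ℂ) = c at *
    have : (c ^ 2 + 1) * (c ^ 4 - (c ^ 2 - 1)) = 0 := by linear_combination h6
    exact sub_eq_zero.1 ((mul_eq_zero.1 this).resolve_left fun e =>
      h7 (by linear_combination (c ^ 2 - 1) * e))
  have hi := fun χ : IrrCharacter G => int hm hζ.pow_eq_one h4 (H6.irr_isGen χ.2)
  have hs : (2 * conj (ζ : ℂ) - conj (ζ : ℂ) ^ 3) ^ 2 = 3 := by
    linear_combination (conj (ζ : ℂ) ^ 2 - 3) * h4
  generalize 2 * conj (ζ : ℂ) - conj (ζ : ℂ) ^ 3 = s at hi hs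
  have sp : ∀ k < 9, Sp φ (φ (col k)) := fun k hk => by
    obtain ⟨u, hu, e⟩ := (by decide +kernel : ∀ k < 9, ∃ u ≠ 0, pw (col k) 4 = (u, 0) ∨
      pw (col k) 3 = (u, 0)) k hk
    exact ⟨u, hu, e.imp (fun e => by rw [md_pw hm, e]) fun e => by rw [md_pw hm, e]⟩
  have gr : ∀ k < 9, ∀ l < 9, ∑ χ : IrrCharacter G, (χ : G → ℂ) (φ (col k)) * (χ : G → ℂ) (φ (col l)) =
      (if k = l then [108, 12, 12, 54, 6, 81, 9, 9, 12].getD k 0 else 0 : ℕ) := fun k hk l hl => by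
    rw [hm.col h.ti (sp k hk) (sp l hl), t1 k hk l hl]
  have re : ∀ k < 9, IsConj (φ (col k)) (φ (col k))⁻¹ := fun k hk => by
    obtain ⟨r, hr⟩ := (by decide +kernel : ∀ k < 9, ∃ r, mul (col k) (mul r (col k)) = r) k hk
    exact hm.real_of r hr
  have ce : ∀ k < 9, (Nat.card (centralizer ({φ (col k)} : Set G)) : ℂ) =
      ([108, 12, 12, 54, 6, 81, 9, 9, 12].getD k 0 : ℕ) := fun k hk => by
    rw [← col_self (re k hk), gr k hk k hk, if_pos rfl]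
  have i9 : ∀ k < 9, (if k = 8 then 2 else k) < 9 := by decide
  obtain ⟨Q, hQ, ds, hp, hb, hF⟩ := exists_pat (K := 9) (Y φ s) (fun k χ => by simp only [Y, Pi.neg_apply]; ring)
    _ _ (fun k hk l hl => by
      simp only [Y, add_mul, mul_add, mul_mul_mul_comm _ (_ : ℂ) _ (_ : ℂ), Finset.sum_add_distrib,
        ← Finset.mul_sum, gr _ (i9 k hk) _ (i9 l hl), gr _ (i9 k hk) 8 (by omega),
        gr 8 (by omega) _ (i9 l hl), gr 8 (by omega) 8 (by omega)]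
      interval_cases k <;> interval_cases l <;> simp [g]
      all_goals first | ring1 | linear_combination (8 / 3) * hs)
    (fun k hk => by interval_cases k <;> simp [Y, g] <;> ring) _ _ hi _ _ _ _ _ _ _ _ search
  have Ye : ∀ k, k ≠ 2 → k ≠ 8 → ∀ χ, Y φ s k χ = χ (φ (col k)) := fun k h1 h2 χ => by
    simp [Y, h1, h2]
  have hP := hp (fun w d => d ≠ 0 ∧ 27 ∣ d + 6 * g w 0 + 12 * g w 3 + 8 * g w 5)
    fun α w d hα hv hd => by
      refine ⟨fun e => hα.one_ne_zero (by rw [hd, e, Int.cast_zero]), ?_⟩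
      obtain ⟨m, e⟩ := avgJ hm hα.isGen id (fun _ _ => rfl) 6 12 8 27 (by decide +kernel)
      rw [← Ye 0 (by omega) (by omega) α, ← Ye 3 (by omega) (by omega) α,
        ← Ye 5 (by omega) (by omega) α, hv 0 (by omega), hv 3 (by omega), hv 5 (by omega), hd] at e
      exact ⟨m, by exact_mod_cast e⟩
  have hl : ∀ k < 9, g [1, 1, 2, 1, 1, 1, 1, 1, 0] k + linS Q ds k = 0 := fun k hk => by
    have := hF (fun χ => χ 1 * Y φ s k χ) (fun w d => ((d * g w k : ℤ) : ℂ))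
      (fun χ => by simp only [Y, Pi.neg_apply]; ring)
      (fun α w d a b => by rw [a k hk, b]; push_cast; rfl) fun χ e => by rw [e k hk, mul_zero]
    have z : ∀ k < 9, ∑ χ : IrrCharacter G, (χ : G → ℂ) 1 * (χ : G → ℂ) (φ (col k)) = 0 :=
      fun k hk => col_ne (re k hk) fun e => by
        obtain ⟨u, hu, e' | e'⟩ := sp k hk <;>
        · rw [isConj_one_right.1 e, one_pow] at e'
          exact md_ne hm hu e'.symm
    rw [show (List.zipWith (fun w d => ((d * g w k : ℤ) : ℂ)) Q ds).sum = (linS Q ds k : ℤ) by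
        rw [linS, Int.cast_list_sum, List.map_zipWith]] at this
    simp only [Y, mul_add, mul_left_comm ((_ : IrrCharacter G).1 1), Finset.sum_add_distrib,
      ← Finset.mul_sum, z _ (i9 k hk), z 8 (by omega), mul_zero, add_zero, mul_one, one_mul] at this
    have e : ((g [1, 1, 2, 1, 1, 1, 1, 1, 0] k : ℤ) : ℂ) = (if k = 8 then s / 3 else 1) +
        (if k = 2 then 1 else if k = 8 then -s / 3 else 0) := by
      interval_cases k <;> simp [g] <;> ring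
    rw [← e] at this
    exact_mod_cast this.symm
  have cf : ∀ i j k a b c n : ℕ, (i < 8 ∧ j < 8 ∧ k < 8 ∧ i ≠ 2 ∧ j ≠ 2 ∧ k ≠ 2 ∧
      col i = (rep a, 0) ∧ col j = (rep b, 0) ∧ col k = (rep c, 0) ∧ (rep a ≠ 0 ∧ rep c ≠ 0 ∧
      kap (rep c) ≠ 3 ∧ ¬ (kap (rep a) = kap (rep b) ∧ kap (rep a) = kap (-rep c)) ∧
      (kap (rep a) ≠ 3 ∨ kap (rep c) = 1)) ∧ (Finset.univ.filter fun u => kap (rep a) = kap u ∧
        kap (rep b) = kap (-u + rep c)).card * [108, 12, 12, 54, 6, 81, 9, 9, 12].getD i 0 *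
        [108, 12, 12, 54, 6, 81, 9, 9, 12].getD j 0 = n) →
      (n : ℚ) = Nat.card G * (1 + cubS Q ds i j k) := by
    rintro i j k a b c n ⟨hi, hj, hk, i2, j2, k2, e1, e2, e3, e4, rfl⟩
    have := hF (fun χ => Y φ s i χ * Y φ s j χ * Y φ s k χ / χ 1)
      (fun w d => ((((g w i * g w j * g w k : ℤ) : ℚ) / d : ℚ) : ℂ))
      (fun χ => by simp only [Y, Pi.neg_apply, div_neg]; ring)
      (fun α w d a b => by rw [a i (by omega), a j (by omega), a k (by omega), b]; push_cast; rfl)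
      fun χ e => by rw [e k (by omega), mul_zero, zero_div]
    simp only [Ye i i2 (by omega), Ye j j2 (by omega), Ye k k2 (by omega), mul_one, div_one] at this
    have e5 := coeff_eq (φ (col i)) (φ (col j)) (re k (by omega))
    rw [this, ce i (by omega), ce j (by omega), e1, e2, e3, h.coeff _ _ _ e4,
      show (List.zipWith (fun w (d : ℤ) => ((((g w i * g w j * g w k : ℤ) : ℚ) / d : ℚ) : ℂ))
        Q ds).sum = (cubS Q ds i j k : ℚ) by rw [cubS, Rat.cast_list_sum, List.map_zipWith]] at e5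
    exact_mod_cast e5
  have E1 := cf 0 3 0 1 2 1 23328 (by decide +kernel)
  have E2 := cf 0 5 0 1 3 1 0 (by decide +kernel)
  have E3 := cf 3 3 0 2 2 1 11664 (by decide +kernel)
  have E4 := cf 3 5 0 2 3 1 17496 (by decide +kernel)
  have E5 := cf 5 5 0 3 3 1 26244 (by decide +kernel)
  have E6 := cf 3 5 3 2 3 2 17496 (by decide +kernel)
  have hH : Nat.card H = 648 := by rw [hm.card]; simp [Fintype.card_prod]
  have hG := H.card_mul_index
  rw [← index_eq_one]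
  have g0 : 0 < H.index := Nat.pos_of_ne_zero index_ne_zero_of_finite
  rw [hH] at hG
  rw [← hG] at hb E1 E2 E3 E4 E5 E6
  exact fin g0 hQ hP hl hb E1 E2 E3 E4 E5 E6

end H58.N9
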