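import Cfsg.Agent.Lib.A9.A6
import Cfsg.Agent.Lib.A9.Cen

/-! The normaliser of a 3-cycle. -/

set_option autoImplicit false
set_option synthInstance.maxSize 1024

namespace H58.N9

open Equiv Equiv.Perm H58.Cd H58.SE H53.Odd Subgroup

variable {G : Type*} [Group G]

/-- where two models agree -/
def eqS {P : Type*} [Group P] (m n : PH P G) : Subgroup P where
  carrier := {k | k ∈ m.S ∧ k ∈ n.S ∧ m.f k = n.f k}
  one_mem' := ⟨one_mem _, one_mem _, m.one.trans n.one.symm⟩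
  mul_mem' := fun ⟨a, b, c⟩ ⟨a', b', c'⟩ =>
    ⟨mul_mem a a', mul_mem b b', by rw [m.mul a a', n.mul b b', c, c']⟩
  inv_mem' := fun ⟨a, b, c⟩ => ⟨inv_mem a, inv_mem b, by rw [m.inv a, n.inv b, c]⟩

theorem exists_sdp {P ι : Type*} [Group P] (m : PH P G) (T : ι → P) (ψ : ι → G)
    (hT : ∀ i j, ∃ l, T l = T i * T j ∧ ψ l = ψ i * ψ j)
    (hn : ∀ i, ∀ k ∈ m.S, T i * k * (T i)⁻¹ ∈ m.S ∧ ψ i * m.f k * (ψ i)⁻¹ = m.f (T i * k * (T i)⁻¹))
    (S : Subgroup P) (hd : ∀ q ∈ S, ∃ i, q * (T i)⁻¹ ∈ m.S)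
    (h1 : ∀ i j, T i * (T j)⁻¹ ∈ m.S → i = j) (h2 : ∀ i j, ψ i * (ψ j)⁻¹ ∈ m.range → i = j) :
    ∃ n : PH P G, n.S = S ∧ ∀ k ∈ m.S, ∀ i, n.f (k * T i) = m.f k * ψ i := by
  classical
  let f : P → G := fun q =>
    if h : ∃ i, q * (T i)⁻¹ ∈ m.S then m.f (q * (T h.choose)⁻¹) * ψ h.choose else 1
  have hf : ∀ k ∈ m.S, ∀ i, f (k * T i) = m.f k * ψ i := fun k hk i => by
    have h : ∃ j, k * T i * (T j)⁻¹ ∈ m.S := ⟨i, by simpa using hk⟩
    have e : i = h.choose := h1 _ _ (by simpa [mul_assoc] using mul_mem (inv_mem hk) h.choose_spec)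
    simp only [f, dif_pos h, ← e, mul_inv_cancel_right]
  have hd' : ∀ q ∈ S, ∃ k ∈ m.S, ∃ i, k * T i = q := fun q hq =>
    (hd q hq).elim fun i hi => ⟨_, hi, i, by simp⟩
  refine ⟨⟨S, f, fun {p q} hp hq => ?_, fun {p q} hp hq e => ?_⟩, rfl, hf⟩
  · obtain ⟨k, hk, i, rfl⟩ := hd' p hp
    obtain ⟨k', hk', j, rfl⟩ := hd' q hq
    obtain ⟨l, e1, e2⟩ := hT i j
    obtain ⟨e3, e4⟩ := hn i k' hk'
    rw [show k * T i * (k' * T j) = k * (T i * k' * (T i)⁻¹) * T l by rw [e1]; group,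
      hf _ (mul_mem hk e3), hf _ hk, hf _ hk', m.mul hk e3, ← e4, e2]; group
  · obtain ⟨k, hk, i, rfl⟩ := hd' p hp
    obtain ⟨k', hk', j, rfl⟩ := hd' q hq
    rw [hf _ hk, hf _ hk'] at e
    obtain rfl := h2 i j (by
      rw [show ψ i * (ψ j)⁻¹ = (m.f k)⁻¹ * m.f k' by rw [eq_inv_mul_iff_mul_eq, ← mul_assoc, e]; simp]
      exact mul_mem (inv_mem (m.f_mem hk)) (m.f_mem hk'))
    rw [m.inj hk hk' (mul_right_cancel e)]

/-- normalising `⟨e⟩` -/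
def nz (e q : P9) : Prop := evn q ∧ (q * e * q⁻¹ = e ∨ q * e * q⁻¹ = e⁻¹)

instance decNz (e q : P9) : Decidable (nz e q) := by unfold nz; infer_instance

/-- a model of the normaliser of `⟨e⟩` -/
structure Lc (φ : M → G) (m : PH P9 G) (e : P9) : Prop where
  S : ∀ {q}, q ∈ m.S ↔ nz e q
  ag : ∀ p, pm p ∈ m.S → m.f (pm p) = φ p
  rng : ∀ g, g * m.f e * g⁻¹ = m.f e ∨ g * m.f e * g⁻¹ = (m.f e)⁻¹ → g ∈ m.range

variable {H : Subgroup G} {φ : M → G}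

theorem Lc.tw (h : Mdl H mul φ) {m : PH P9 G} {e : P9} (l : Lc φ m e) (p : M) :
    ∃ n, Lc φ n (pm p * e * (pm p)⁻¹) := by
  refine ⟨(m.cj (φ p)).comapEquiv (MulAut.conj (pm p)⁻¹), fun {q} => l.S.trans ?_, fun r hr => ?_,
    fun g hg => ?_⟩
  · refine and_congr (by simp [evn, sign_N0 (pm_mem p)]) (or_congr ?_ ?_) <;>
    · rw [← (MulAut.conj (pm p)).injective.eq_iff]; simp [mul_assoc]
  · obtain ⟨r', e⟩ := (mdl0.mem _).1 (mul_mem (mul_mem (inv_mem (pm_mem p)) (pm_mem r))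
      (inv_mem (inv_mem (pm_mem p))))
    change φ p * m.f (_ * _ * _) * _ = _
    rw [← e, l.ag r' (e ▸ hr), h.conj_iff, ← mdl0.conj_iff, e]; group
  · rw [PH.range_comapEquiv]
    have e1 : ((m.cj (φ p)).comapEquiv (MulAut.conj (pm p)⁻¹)).f (pm p * e * (pm p)⁻¹) =
      φ p * m.f e * (φ p)⁻¹ := by simp [PH.comapEquiv, PH.cj, mul_assoc]
    rw [e1] at hg
    obtain ⟨q, hq, e2⟩ := m.mem_range.1 (l.rng ((φ p)⁻¹ * g * φ p) (hg.imp
      (fun e => by rw [← (MulAut.conj (φ p)).injective.eq_iff]; simpa [mul_assoc] using e)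
      fun e => by rw [← (MulAut.conj (φ p)).injective.eq_iff]; simpa [mul_assoc] using e))
    exact (PH.mem_range _).2 ⟨q, hq, by simp [PH.cj, e2, mul_assoc]⟩

def a1 : P9 := swap 0 1 * swap 2 3
def u1 : P9 := swap 0 2 * swap 1 3
def om : P9 := swap 1 2 * swap 3 4
def ap1 : P9 := swap 1 2 * swap 4 5
def xk (i : Fin 4) : P9 := if i = 3 then e2 else e1 ^ i.val * (a1 * u1 * om) * (e1 ^ i.val)⁻¹
def τ3 (t : ZMod 3 × ZMod 2) : M := ((0, 0, t.1), (0, t.2), 0, 0)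

theorem gen_xk {F : Subgroup P9} (h : ∀ i, xk i ∈ F) : K0 ≤ F :=
  gen6 xk (by decide +kernel) (by decide +kernel) (by decide +kernel) (by decide +kernel) h

theorem s8 : ∀ v, pw (mul (col 11) (v, 0)) 4 = 0 → ∃ d : V27, d.2.2 = 0 ∧
    mul (d, 0) (mul (col 11) (v, 0)) = mul (col 11) (d, 0) := by decide +kernel

theorem s9 : ∀ p, k0 (pm p) → p.1.2.2 = 0 ∧ ∃ i : Fin 4, p = mul (p.1, 0) (pw (col 11) i) := by
  simp only [k0_iff, pm, sp, f27, code_mul, code_pow, ca0, cb0, cπ, cs0, ce1, ce2, ce3]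
  decide +kernel

theorem s10 : ∀ t t', t = t' ∨ ∃ p, mul p (τ3 t') = τ3 t ∧
    (act p.2 (rep 1) ≠ rep 1 ∨ p.2 = 0 ∧ p.1.2.2 ≠ 0) := by decide +kernel

theorem s_key {q : P9} (h : q * ap1 = ap1 * q) : k0 q → q ≠ ap1 → q * q = 1 → (q * om) ^ 3 = 1 →
    q = a1 * u1 := by
  simp only [ne_eq, k0_iff, Cd.eq_iff (n := 9), code_mul, code_pow]
  refine fc 9 _ (code q) ⟨ap1, q, rfl, rfl, h⟩ ?_
  decide +kernel

theorem dec3 {q : P9} (h : q * e3 = e3 * q) : evn q → ∃ i : ZMod 3, k0 (q * (e3 ^ i.val)⁻¹) := by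
  simp only [evn_iff, k0_iff, code_mul, code_pow, code_inv, ce3]
  refine fc 9 _ (code q) ⟨e3, q, ce3, rfl, h⟩ ?_
  decide +kernel

theorem dec3' {q : P9} (h : nz e3 q) : ∃ t, q * (pm (τ3 t))⁻¹ ∈ K0 := by
  rcases h.2 with e | e
  · obtain ⟨i, hi⟩ := dec3 (mul_inv_eq_iff_eq_mul.1 e) h.1
    exact ⟨(i, 0), mem_K0.2 ((show e3 ^ i.val = pm (τ3 (i, 0)) by
      clear * -; revert i; decide +kernel) ▸ hi)⟩
  · obtain ⟨i, hi⟩ := dec3 (q := q * b0⁻¹) (by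
      calc _ = (q * e3 * q⁻¹)⁻¹ * q * b0⁻¹ := by
            rw [mul_assoc, show b0⁻¹ * e3 = e3⁻¹ * b0⁻¹ by decide +kernel]; group
        _ = _ := by rw [e]; group)
      (by rw [evn, map_mul, h.1, one_mul]; exact (show evn b0⁻¹ by decide +kernel))
    refine ⟨(i, 1), mem_K0.2 ?_⟩
    rwa [mul_assoc, show b0⁻¹ * (e3 ^ i.val)⁻¹ = (pm (τ3 (i, 1)))⁻¹ by
      clear * -; revert i; decide +kernel] at hi

theorem Hn.exists_lc [Finite G] (h : Hn H φ) :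
    (∀ g, g * φ (rep 1, 0) = φ (rep 1, 0) * g → g ∈ H) ∨ ∃ m, Lc φ m e3 := by
  have M := h.toMdl
  refine h.cx.imp_right fun ⟨N, ⟨θ⟩, hc, hn, hD, hF⟩ => ?_
  obtain ⟨m, hS, hR, f1, f2⟩ := exists_mK θ (p := ⟨_, (hD (1, 0, 0)).2 rfl⟩)
    (q := ⟨_, (hD (0, 1, 0)).2 rfl⟩) (by
      simp only [Pr, Subtype.ext_iff, ne_eq, Subgroup.coe_mul, Subgroup.coe_inv, Subgroup.coe_one,
        Subgroup.coe_pow, ← md_neg M, ← md_add' M, md_cube M, ← md_one M, M.inj.eq_iff]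
      refine ⟨trivial, trivial, by decide, by decide, by decide, by decide, by decide,
        fun k => ⟨fun e => ?_, fun e => ?_⟩⟩ <;> exact absurd (h.kap_eq e) (by decide))
  have hm : ∀ {q}, k0 q → q ∈ m.S := fun hq => hS ▸ mem_K0.2 hq
  have agD : ∀ v : V27, v.2.2 = 0 → pm (v, 0) ∈ m.S ∧ m.f (pm (v, 0)) = φ (v, 0) := fun v hv => by
    have e : v = v.1.val • ((1, 0, 0) : V27) + v.2.1.val • (0, 1, 0) := by
      clear * - hv; revert v; decide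
    have m1 : e1 ∈ m.S := hm (by decide +kernel)
    have m2 : e2 ∈ m.S := hm (by decide +kernel)
    rw [e, md_add' M, md_add' mdl0, md_nsmul M, md_nsmul M, md_nsmul mdl0, md_nsmul mdl0,
      show pm ((1, 0, 0), 0) = e1 by decide +kernel, show pm ((0, 1, 0), 0) = e2 by decide +kernel,
      m.mul (pow_mem m1 _) (pow_mem m2 _), m.pow m1, m.pow m2, f1, f2]
    exact ⟨mul_mem (pow_mem m1 _) (pow_mem m2 _), rfl⟩
  have mr : pm (col 11) ∈ m.S := hm (by decide +kernel)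
  obtain ⟨v, hv⟩ := h.cK (w := (1, 0, 0)) (by decide) rfl (k := (φ (col 11))⁻¹ * m.f (pm (col 11)))
    (by
      rw [mul_assoc, hc _ (hR ▸ m.f_mem mr), ← mul_assoc, ← mul_assoc, inv_mul_eq_iff_eq_mul.2]
      rw [← mul_assoc, h.act_comm.2 (by decide +kernel)]; simp)
    (by
      have e1 := m.conj mr (agD (1, 0, 0) rfl).1
      rw [md_cj mdl0, (agD _ (by decide +kernel)).2, (agD _ rfl).2, ← md_cj M] at e1
      calc _ = (φ (col 11))⁻¹ * (m.f (pm (col 11)) * φ ((1, 0, 0), 0) * (m.f (pm (col 11)))⁻¹) *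
            m.f (pm (col 11)) := by group
        _ = _ := by rw [← e1]; group)
  rw [eq_inv_mul_iff_mul_eq, ← M.hom] at hv
  obtain ⟨d, hd, hd'⟩ := s8 v ((md_pw1 M).1 (hv ▸ (m.pow_eq_one_iff mr 4).2 (by decide +kernel)))
  rw [← M.conj_iff, hv] at hd'
  let n := m.cj (φ (d, 0))
  have hnf : ∀ q, n.f q = φ (d, 0) * m.f q * (φ (d, 0))⁻¹ := fun _ => rfl
  have hdN := (hD d).2 hd
  have nR : ∀ {g}, g ∈ n.range ↔ g ∈ N := fun {g} => by
    rw [PH.mem_range, ← hR]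
    refine ⟨fun ⟨q, hq, e⟩ => e ▸ mul_mem (mul_mem (hR ▸ hdN) (m.f_mem hq)) (inv_mem (hR ▸ hdN)),
      fun hg => ?_⟩
    obtain ⟨q, hq, e⟩ := m.mem_range.1 (mul_mem (mul_mem (inv_mem (hR ▸ hdN)) hg) (hR ▸ hdN))
    exact ⟨q, hq, by rw [hnf, e]; group⟩
  have ag0 : ∀ p, pm p ∈ K0 → n.f (pm p) = φ p := fun p hp => by
    obtain ⟨e1, i, e2⟩ := s9 p (mem_K0.1 hp)
    rw [e2, mdl0.hom, M.hom, ← md_pw mdl0, ← md_pw M, n.mul (agD _ e1).1 (pow_mem mr _), n.pow mr,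
      hnf, hnf, hd', (agD _ e1).2, md_JJ M d, mul_inv_cancel_right]
  have nS : n.S = K0 := hS
  clear_value n
  have hτ : ∀ t, act (τ3 t).2 (rep 1) = rep 1 ∨ act (τ3 t).2 (rep 1) = -rep 1 := by decide +kernel
  have act0 : ∀ t, K0 ≤ eqS (n.cj (φ (τ3 t))) (n.comapEquiv (MulAut.conj (pm (τ3 t)))) := fun t => by
    have hE : ∀ {k}, k ∈ eqS (n.cj (φ (τ3 t))) (n.comapEquiv (MulAut.conj (pm (τ3 t)))) ↔ k ∈ n.S ∧
      pm (τ3 t) * k * (pm (τ3 t))⁻¹ ∈ n.S ∧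
        φ (τ3 t) * n.f k * (φ (τ3 t))⁻¹ = n.f (pm (τ3 t) * k * (pm (τ3 t))⁻¹) := Iff.rfl
    have k1 : ∀ k, (∃ p, pm p = k) → k0 k → k0 (pm (τ3 t) * k * (pm (τ3 t))⁻¹) →
        k ∈ eqS (n.cj (φ (τ3 t))) (n.comapEquiv (MulAut.conj (pm (τ3 t)))) := by
      rintro _ ⟨p, rfl⟩ h1 h2
      obtain ⟨r, hr⟩ := (mdl0.mem _).1 (mul_mem (mul_mem (pm_mem (τ3 t)) (pm_mem p))
        (inv_mem (pm_mem (τ3 t))))
      refine hE.2 ⟨nS ▸ mem_K0.2 h1, nS ▸ mem_K0.2 h2, ?_⟩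
      rw [← hr, ag0 p (mem_K0.2 h1), ag0 r (hr ▸ mem_K0.2 h2), M.conj_iff, ← mdl0.conj_iff, hr]
    have m1 := k1 e1 ⟨((1, 0, 0), 0), by decide +kernel⟩ (by decide +kernel)
      (by clear * -; revert t; decide +kernel)
    have m2 := k1 e2 ⟨((0, 1, 0), 0), by decide +kernel⟩ (by decide +kernel)
      (by clear * -; revert t; decide +kernel)
    have m3 := k1 om ⟨((2, 0, 0), (1, 0), 0, 0), by decide +kernel⟩ (by decide +kernel)
      (by clear * -; revert t; decide +kernel)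
    have m4 := k1 ap1 ⟨((2, 2, 0), (1, 0), 0, 0), by decide +kernel⟩ (by decide +kernel)
      (by clear * -; revert t; decide +kernel)
    have m5 : a1 * u1 ∈ eqS (n.cj (φ (τ3 t))) (n.comapEquiv (MulAut.conj (pm (τ3 t)))) := by
      have ms : a1 * u1 ∈ n.S := nS ▸ mem_K0.2 (by decide +kernel)
      have ms' : pm (τ3 t) * (a1 * u1) * (pm (τ3 t))⁻¹ ∈ n.S :=
        nS ▸ mem_K0.2 (by clear * -; revert t; decide +kernel)
      obtain ⟨q, hq, e⟩ := n.mem_range.1 (nR.2 ((mem_normalizer_iff.1 (mem_normalizer_of_le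
        (hn _ (hτ t))) ((φ (τ3 t))⁻¹ * n.f _ * φ (τ3 t))).2
          (by simpa [mul_assoc] using nR.1 (n.f_mem ms'))))
      replace e : φ (τ3 t) * n.f q * (φ (τ3 t))⁻¹ = n.f (pm (τ3 t) * (a1 * u1) * (pm (τ3 t))⁻¹) := by
        rw [e]; group
      obtain ⟨a3, b3, c3⟩ := hE.1 m3
      obtain ⟨a4, b4, c4⟩ := hE.1 m4
      obtain rfl := s_key (q := q) ((n.comm_iff hq a4).1 (comm_of_conj (g := φ (τ3 t)) (by
          rw [e, c4, n.comm_iff ms' b4]; exact SE.conj_comm (by decide +kernel))))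
        (mem_K0.1 (nS ▸ hq)) (by
          rintro rfl
          exact absurd (n.inj b4 ms' (c4.symm.trans e)) (by clear * -; revert t; decide +kernel))
        ((n.mul_eq_one_iff hq hq).1 (by
          rw [← conj_eq_one_iff (a := φ (τ3 t)), ← conj_mul, e, n.mul_eq_one_iff ms' ms']
          exact conj_sq (by decide +kernel)))
        ((n.pow_eq_one_iff (mul_mem hq a3) 3).1 (by
          rw [← conj_eq_one_iff (a := φ (τ3 t)), ← conj_pow, n.mul hq a3, ← conj_mul, e, c3,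
            ← n.mul ms' b3, n.pow_eq_one_iff (mul_mem ms' b3), conj_mul]
          exact conj_cube (by decide +kernel)))
      exact hE.2 ⟨ms, ms', e⟩
    refine gen_xk fun i => ?_
    unfold xk; split_ifs
    exacts [m2, mul_mem (mul_mem (pow_mem m1 _) (mul_mem m5 m3)) (inv_mem (pow_mem m1 _))]
  have hz : ∀ {q}, q ∈ alternatingGroup (Fin 9) ⊓ normalizer (zpowers e3 : Set P9) ↔ nz e3 q :=
    and_congr Iff.rfl (St.mem_norm_zpowers (by decide +kernel) (by decide +kernel))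
  obtain ⟨l, lS, lf⟩ := exists_sdp n (fun t => pm (τ3 t)) (fun t => φ (τ3 t)) (fun i j => by
      obtain ⟨l, e⟩ : ∃ l, τ3 l = mul (τ3 i) (τ3 j) := by clear * -; revert i j; decide +kernel
      exact ⟨l, e ▸ mdl0.hom _ _, e ▸ M.hom _ _⟩) (fun t k hk => (act0 t (nS ▸ hk)).2) _
    (fun q hq => nS ▸ dec3' (hz.1 hq))
    (fun i j e => by
      have := mem_K0.1 (nS ▸ e)
      clear * - this; revert i j; decide +kernel)
    fun i j e => (s10 i j).elim id fun ⟨p, e1, e2⟩ => by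
      rw [← e1, M.hom, mul_inv_cancel_right, nR] at e
      rcases e2 with e2 | ⟨e2, e3⟩
      · exact absurd (h.act_comm.1 (hc _ e)) e2
      · exact absurd ((hD p.1).1 (e2 ▸ e)) e3
  have ag : ∀ p, pm p ∈ l.S → l.f (pm p) = φ p := fun p hp => by
    obtain ⟨t, ht⟩ := dec3' (hz.1 (lS ▸ hp))
    obtain ⟨r, hr⟩ := (mdl0.mem _).1 (mul_mem (pm_mem p) (inv_mem (pm_mem (τ3 t))))
    have e : pm p = pm r * pm (τ3 t) := by rw [hr]; simp
    rw [e, lf _ (nS ▸ hr ▸ ht), ag0 r (hr ▸ ht), ← M.hom, mdl0.inj (e.trans (mdl0.hom _ _).symm)]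
  have lm : ∀ {q}, q ∈ l.S ↔ nz e3 q := lS ▸ hz
  have e3' : pm (rep 1, 0) = e3 := by decide +kernel
  refine ⟨l, lm, ag, fun g hg => ?_⟩
  rw [← e3', ag _ (lm.2 (by decide +kernel))] at hg
  have key : ∀ g, g * φ (rep 1, 0) = φ (rep 1, 0) * g → g ∈ l.range := fun g hg => by
    obtain ⟨k, hk, hkg⟩ := hF g hg
    obtain ⟨p, hp⟩ := (M.mem _).1 hkg
    have mp : pm p ∈ l.S := lm.2 ⟨sign_N0 (pm_mem p), Or.inl (by
      rw [← e3', md_cj mdl0, h.act_comm.1 (by rw [hp, mul_assoc, hg, ← mul_assoc, hc k hk, mul_assoc])])⟩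
    obtain ⟨q, hq, rfl⟩ := n.mem_range.1 (nR.2 hk)
    have e := lf q hq 0
    rw [show τ3 0 = 0 from rfl, md_one mdl0, md_one M, mul_one, mul_one] at e
    have mq : q ∈ l.S := lm.2 ⟨(mem_K0.1 (nS ▸ hq)).1, Or.inl (mul_inv_eq_iff_eq_mul.2
      (mem_centralizer_singleton_iff.1 (gen_xk (F := centralizer {e3}) (fun i =>
        mem_centralizer_singleton_iff.2 (by clear * -; revert i; decide +kernel)) (nS ▸ hq))))⟩
    simpa [ag p mp, hp, e] using mul_mem (inv_mem (l.f_mem mq)) (l.f_mem mp)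
  rcases hg with hg | hg
  · exact key g (mul_inv_eq_iff_eq_mul.1 hg)
  · have mb : pm (τ3 (0, 1)) ∈ l.S := lm.2 (by decide +kernel)
    have e : φ (τ3 (0, 1)) * φ (rep 1, 0) * (φ (τ3 (0, 1)))⁻¹ = (φ (rep 1, 0))⁻¹ := by
      rw [← md_neg M, h.act_eq]; decide +kernel
    have := key ((φ (τ3 (0, 1)))⁻¹ * g) (by
      calc _ = (φ (τ3 (0, 1)))⁻¹ * (g * φ (rep 1, 0) * g⁻¹) * g := by group
        _ = _ := by rw [hg, ← e]; group)
    simpa [ag _ mb] using mul_mem (l.f_mem mb) this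

end H58.N9
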