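import Cfsg.Agent.Lib.A9.Cons
import Cfsg.Agent.Lib.A9.Fin9

/-! Recognition of `A₉` from the normaliser of `3³`. -/

set_option autoImplicit false

namespace H58.N9

open Equiv Equiv.Perm H58.Cd H58.SE H53.Odd Subgroup

theorem conj9 {p q : P9} (hp : p ^ 3 = 1) (h1 : p ≠ 1) (hq : q ^ 3 = 1)
    (h : p.support.card = q.support.card) : ∃ k, evn k ∧ k * p * k⁻¹ = q := by
  have key : ∀ r c : P9, r ^ 3 = 1 ∧ ¬ evn c ∧ c * r = r * c → p.support.card = r.support.card →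
      ∃ k, evn k ∧ k * p * k⁻¹ = q := fun r c hr e => by
    obtain ⟨k, hk, rfl⟩ := even_conj hr.2 (isConj_of_cube hr.1 hp e.symm)
    obtain ⟨l, hl, rfl⟩ := even_conj hr.2 (isConj_of_cube hr.1 hq (e.symm.trans h))
    exact ⟨l * k⁻¹, by rw [evn, map_mul, map_inv, hk, hl]; rfl, by group⟩
  obtain ⟨k, e, k1, k2⟩ := cube_supp hp h1
  rcases (show k = 1 ∨ k = 2 ∨ k = 3 by omega) with rfl | rfl | rfl
  · exact key e3 (swap 0 1) (by decide +kernel) (e.trans (by decide +kernel))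
  · exact key (e1 * e2) (swap 6 7) (by decide +kernel) (e.trans (by decide +kernel))
  · exact key (e1 * e2 * e3) (swap 0 3 * swap 1 4 * swap 2 5) (by decide +kernel)
      (e.trans (by decide +kernel))

variable {G : Type*} [Group G] [Finite G] {H : Subgroup G} {φ : M → G}

theorem Hn.se3 (h : Hn H φ) {k : PH P9 G} (hk : ∀ {p}, p ∈ k.S ↔ evn p) (hH : H ≤ k.range)
    (hx : ∀ g, g * φ (rep 1, 0) = φ (rep 1, 0) * g → g ∈ k.range) : SE3 k.range := by
  have M := h.toMdl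
  choose q hq hq' using fun i => k.mem_range.1 (hH (md_mem M (rep i, 0)))
  have key : ∀ x ∈ k.range, x ^ 3 = 1 → x ≠ 1 → ∃ i ∈ [1, 2, 3], ∃ l ∈ k.range,
      l * φ (rep i, 0) * l⁻¹ = x := fun x hx h3 h1 => by
    obtain ⟨p, hp, rfl⟩ := k.mem_range.1 hx
    have q3 : ∀ i, q i ^ 3 = 1 := fun i => (k.pow_eq_one_iff (hq i) 3).1 (hq' i ▸ md_cube M _)
    have q1 : ∀ i, rep i ≠ 0 → q i ≠ 1 := fun i hi =>
      (k.eq_one_iff (hq i)).not.1 (hq' i ▸ md_ne M hi)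
    have cj : ∀ i, rep i ≠ 0 → ∀ r ∈ k.S, r ^ 3 = 1 → (q i).support.card = r.support.card →
        ∃ l ∈ k.range, l * φ (rep i, 0) * l⁻¹ = k.f r := fun i hi r hr r3 e => by
      obtain ⟨l, a, b⟩ := conj9 (q3 i) (q1 i hi) r3 e
      exact ⟨_, k.f_mem (hk.2 a), hq' i ▸ (k.conj_iff (hk.2 a) (hq i) hr).2 b⟩
    have ne : ∀ i j, rep i ≠ 0 ∧ kap (rep i) ≠ kap (rep j) →
        (q i).support.card ≠ (q j).support.card := fun i j hij e => by
      obtain ⟨l, -, e⟩ := cj i hij.1 _ (hq j) (q3 j) e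
      exact hij.2 (h.kap_eq (e.trans (hq' j)))
    have p3 := (k.pow_eq_one_iff hp 3).1 h3
    obtain ⟨a, a1, a2, a3⟩ := cube_supp p3 ((k.eq_one_iff hp).not.1 h1)
    obtain ⟨b, b1, b2, b3⟩ := cube_supp (q3 1) (q1 1 (by decide))
    obtain ⟨c, c1, c2, c3⟩ := cube_supp (q3 2) (q1 2 (by decide))
    obtain ⟨d, d1, d2, d3⟩ := cube_supp (q3 3) (q1 3 (by decide))
    have n1 := ne 1 2 (by decide)
    have n2 := ne 1 3 (by decide)
    have n3 := ne 2 3 (by decide)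
    rcases (show (q 1).support.card = p.support.card ∨ (q 2).support.card = p.support.card ∨
      (q 3).support.card = p.support.card by omega) with e | e | e
    exacts [⟨1, by simp, cj 1 (by decide) p hp p3 e⟩, ⟨2, by simp, cj 2 (by decide) p hp p3 e⟩,
      ⟨3, by simp, cj 3 (by decide) p hp p3 e⟩]
  intro x hx' h3 h1
  obtain ⟨i, -, l, hl, rfl⟩ := key x hx' h3 h1
  refine UF.conj (fun g hg => ?_) hl
  obtain ⟨j, hj, n, hn, e⟩ := key _ hg (conj_cube (md_cube M _)) (by simpa using h1)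
  obtain ⟨c, c1, c2⟩ := h.fus (g := n⁻¹ * g) (u := rep i) (v := rep j) (by
    calc _ = n⁻¹ * (g * φ (rep i, 0) * g⁻¹) * n := by group
      _ = _ := by rw [← e]; group)
  have : c ∈ k.range := by
    simp only [List.mem_cons, List.not_mem_nil, or_false] at hj
    rcases hj with rfl | rfl | rfl
    exacts [hx c c1, hH (h.cy c1), hH (h.cz c1)]
  simpa using mul_mem hn (mul_mem (inv_mem this) (hH c2))

theorem Hn.main (h : Hn H φ) : H = ⊤ ∨ Nonempty (G ≃* alternatingGroup (Fin 9)) := by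
  have M := h.toMdl
  refine h.exists_lc.imp (fun hx => Hy.top ⟨M, fun u hu g hg => ?_⟩) fun ⟨m, l⟩ => ?_
  · by_cases e : 2 ≤ kap u
    · exact h.cyz e hg
    obtain ⟨w, hw⟩ := t4 u
    rw [show kap u = 1 by clear * - hu e; revert u; decide] at hw
    have := hx ((φ (0, w))⁻¹ * g * φ (0, w)) (comm_of_conj (g := φ (0, w)) (by
      rw [md_cj M, hw]; simpa [mul_assoc] using hg))
    simpa [mul_assoc] using mul_mem (mul_mem (md_mem M (0, w)) this) (inv_mem (md_mem M (0, w)))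
  · obtain ⟨n, l'⟩ := l.tw M (0, 0, 1, 0)
    rw [show pm (0, 0, 1, 0) * e3 * (pm (0, 0, 1, 0))⁻¹ = e1 by decide +kernel] at l'
    obtain ⟨k, hk, h1, h2⟩ := l.alt l' h
    have hk' : ∀ {p}, p ∈ k.S ↔ evn p := hk ▸ mem_alternatingGroup
    exact ⟨(k.equivOfTop (Fn.range_eq_top ⟨hk', h.se3 hk' h1 fun g hg => h2 (l.rng g (Or.inl
      (l.fx ▸ mul_inv_eq_iff_eq_mul.2 hg)))⟩)).trans (MulEquiv.subgroupCongr hk)⟩

end H58.N9
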