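import Cfsg.Agent.Lib.A9.Tab

/-! Fusion in a group containing `3³ : S₄`. -/

set_option autoImplicit false

namespace H58.N9

open Cfsg H53.Odd Subgroup

variable {G : Type*} [Group G]

/-- the hypotheses -/
structure Hy (H : Subgroup G) (φ : M → G) : Prop extends Mdl H mul φ where
  hC : ∀ u : V27, u ≠ 0 → ∀ g, g * φ (u, 0) = φ (u, 0) * g → g ∈ H

/-- the special elements -/
def Sp (φ : M → G) (x : G) : Prop := ∃ u ≠ 0, x ^ 4 = φ (u, 0) ∨ x ^ 3 = φ (u, 0)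

variable {H : Subgroup G} {φ : M → G}

theorem md_add (h : Mdl H mul φ) : AH fun u => φ (u, 0) := fun u v => by rw [← h.hom, mul_J]

theorem md_one (h : Mdl H mul φ) : φ 0 = 1 := (md_add h).zero

theorem md_pw (h : Mdl H mul φ) (p : M) : ∀ n, φ p ^ n = φ (pw p n)
  | 0 => by rw [pow_zero, ← md_one h]; rfl
  | n + 1 => by rw [pow_succ, md_pw h p n, ← h.hom]; rfl

theorem md_pw1 (h : Mdl H mul φ) {p : M} {n : ℕ} : φ p ^ n = 1 ↔ pw p n = 0 := by
  rw [md_pw h, ← md_one h, h.inj.eq_iff]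

theorem md_cube (h : Mdl H mul φ) (u : V27) : φ (u, 0) ^ 3 = 1 :=
  (md_pw1 h).2 (by revert u; decide +kernel)

theorem md_comm (h : Mdl H mul φ) {p q : M} : φ p * φ q = φ q * φ p ↔ mul p q = mul q p := by
  rw [← h.hom, ← h.hom, h.inj.eq_iff]

theorem md_cj (h : Mdl H mul φ) (r : M) (u : V27) :
    φ r * φ (u, 0) * (φ r)⁻¹ = φ (act r.2 u, 0) := (h.conj_iff _ _ _).2 (mul_cj r u)

theorem md_ne (h : Mdl H mul φ) {u : V27} (hu : u ≠ 0) : φ (u, 0) ≠ 1 := fun e =>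
  hu (congrArg Prod.fst (h.inj (e.trans (md_one h).symm)))

theorem md_JJ (h : Mdl H mul φ) (u v : V27) : φ (u, 0) * φ (v, 0) = φ (v, 0) * φ (u, 0) := by
  rw [← md_add h, ← md_add h, add_comm]

/-- `J` is the only elementary abelian subgroup of order `27` -/
theorem md_J (h : Mdl H mul φ) {g : G} (hg : ∀ u, g * φ (u, 0) * g⁻¹ ∈ H) (u : V27) :
    ∃ v, g * φ (u, 0) * g⁻¹ = φ (v, 0) := by
  choose ψ hψ using fun u => (h.mem _).1 (hg u)
  refine ⟨(ψ u).1, ?_⟩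
  by_cases e : (ψ u).2 = 0
  · rw [← hψ, ← e]
  have h1 := t2 (ψ u) ((md_pw1 h).1 (by rw [hψ, conj_pow, md_cube h]; simp)) e
  have h2 := Finset.card_le_card_of_injOn (s := Finset.univ) ψ
    (t := Finset.univ.filter fun r => mul r (ψ u) = mul (ψ u) r)
    (fun v _ => by
      simp only [Finset.coe_filter, Finset.mem_univ, true_and, Set.mem_ofPred_eq]
      rw [← md_comm h, hψ, hψ, conj_mul, conj_mul, md_JJ h])
    (fun v _ w _ e => by
      have := (hψ v).symm.trans ((congrArg φ e).trans (hψ w))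
      exact congrArg Prod.fst (h.inj (by simpa using this)))
  simp only [Finset.card_univ, Fintype.card_prod, ZMod.card] at h2
  omega

namespace Hy

variable (h : Hy H φ)
include h

theorem nJ {g : G} {u v : V27} (hv : v ≠ 0) (e : g * φ (u, 0) * g⁻¹ = φ (v, 0)) (u' : V27) :
    ∃ v', g * φ (u', 0) * g⁻¹ = φ (v', 0) :=
  md_J h.toMdl (fun u' => h.hC v hv _ (by rw [← e, conj_mul, conj_mul, md_JJ h.toMdl])) u'

theorem inJ {z : G} {v : V27} (hv : v ≠ 0) (h3 : kap v ≠ 3) (hz : z ^ 3 = 1)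
    (e : z * φ (v, 0) = φ (v, 0) * z) : ∃ u, z = φ (u, 0) := by
  obtain ⟨⟨u, w⟩, rfl⟩ := (h.mem z).1 (h.hC v hv z e)
  by_cases hw : w = 0
  · exact ⟨u, hw ▸ rfl⟩
  · exact absurd ((t3 _ ((md_pw1 h.toMdl).1 hz) hw).2.1 v hv ((md_comm h.toMdl).1 e)) h3

theorem fus {g : G} {u v : V27} (hu : u ≠ 0) (e : g * φ (u, 0) * g⁻¹ = φ (v, 0)) : g ∈ H := by
  have hv : v ≠ 0 := by
    rintro rfl
    exact md_ne h.toMdl hu (conj_eq_one_iff.1 (e.trans (md_one h.toMdl)))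
  obtain ⟨z, hz⟩ := h.nJ hv e (rep 3)
  have hz0 : z ≠ 0 := by
    rintro rfl
    exact md_ne h.toMdl (by decide) (conj_eq_one_iff.1 (hz.trans (md_one h.toMdl)))
  have h3 : kap z = 3 := by
    by_contra h3
    obtain ⟨u', e1⟩ := h.inJ (z := g * φ (0, 0, 1, 0) * g⁻¹) hz0 h3
      (by rw [conj_pow, (md_pw1 h.toMdl).2 (by decide +kernel)]; simp)
      (by rw [← hz, conj_mul, conj_mul, (md_comm h.toMdl).2 (by decide +kernel)])
    obtain ⟨v', e2⟩ := h.nJ (g := g⁻¹) (u := v) hu (by rw [← e]; group) u'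
    rw [← e1] at e2
    have := congrArg Prod.snd (h.inj (show φ (0, 0, 1, 0) = _ by rw [← e2]; group))
    revert this; dsimp only; decide
  obtain ⟨w, hw⟩ := t4 z
  rw [h3] at hw
  have e3 := md_cj h.toMdl (0, w) (rep 3)
  rw [hw, ← hz] at e3
  have := h.hC (rep 3) (by decide) ((φ (0, w))⁻¹ * g) (by
    calc _ = (φ (0, w))⁻¹ * (g * φ (rep 3, 0) * g⁻¹) * g := by group
      _ = _ := by rw [← e3]; group)
  simpa using mul_mem ((h.mem _).2 ⟨(0, w), rfl⟩) this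

theorem ti : TI H (Sp φ) := by
  refine ⟨fun x ⟨u, hu, e⟩ => ⟨-u, neg_ne_zero.2 hu, ?_⟩, ?_⟩
  · rw [inv_pow, inv_pow, show φ (-u, 0) = (φ (u, 0))⁻¹ from (md_add h.toMdl).neg u, inv_inj, inv_inj]
    exact e
  have key : ∀ x u, x ^ 4 = φ (u, 0) → (x ^ 3) ^ 3 = 1 → x ^ 3 = 1 := fun x u e1 e2 => by
    have := md_cube h.toMdl u
    rw [← e1, ← pow_mul] at this
    rw [← pow_mul] at e2
    exact pow_gcd_eq_one.2 ⟨this, e2⟩
  rintro x y g ⟨u, hu, e | e⟩ ⟨v, hv, e' | e'⟩ rfl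
  · exact h.fus hu (v := v) (by rw [← e, ← e', conj_pow])
  · rw [conj_pow] at e'
    have := key x u e (by simpa [← e', conj_pow] using md_cube h.toMdl v)
    exact absurd (by rw [← e', this]; simp) (md_ne h.toMdl hv)
  · have := key _ v e' (by rw [conj_pow, e, conj_pow, md_cube h.toMdl]; simp)
    rw [conj_pow, e, conj_eq_one_iff] at this
    exact absurd this (md_ne h.toMdl hu)
  · exact h.fus hu (v := v) (by rw [← e, ← e', conj_pow])

theorem conj_iff {u v : V27} : IsConj (φ (u, 0)) (φ (v, 0)) ↔ kap u = kap v := by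
  constructor
  · intro e
    obtain ⟨g, e⟩ := isConj_iff.1 e
    by_cases hu : u = 0
    · subst hu
      rw [show φ (0, 0) = 1 from md_one h.toMdl, mul_one, mul_inv_cancel, ← md_one h.toMdl] at e
      exact congrArg (fun p : M => kap p.1) (h.inj e)
    obtain ⟨r, rfl⟩ := (h.mem g).1 (h.fus hu e)
    rw [md_cj h.toMdl] at e
    rw [← show act r.2 u = v from congrArg Prod.fst (h.inj e), t5]
  · intro e
    have key : ∀ u, IsConj (φ (rep (kap u), 0)) (φ (u, 0)) := fun u => by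
      obtain ⟨w, hw⟩ := t4 u
      exact isConj_iff.2 ⟨_, (md_cj h.toMdl (0, w) _).trans (by rw [hw])⟩
    exact (key u).symm.trans (e ▸ key v)

theorem nw {a : V27} (ha : a ≠ 0) (h3 : kap a ≠ 3) {p : M} (e : IsConj (φ (a, 0)) (φ p)) :
    p.2 = 0 := by
  by_contra hp
  obtain ⟨g, e⟩ := isConj_iff.1 e
  obtain ⟨v, hv, e1⟩ := (t3 p ((md_pw1 h.toMdl).1 (by
    rw [← e, conj_pow, md_cube h.toMdl]; simp)) hp).1
  rw [← md_comm h.toMdl, ← e] at e1
  obtain ⟨u, e2⟩ := h.inJ (z := g⁻¹ * φ (v, 0) * g⁻¹⁻¹) ha h3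
    (by rw [conj_pow, md_cube h.toMdl]; simp) (by
      calc _ = g⁻¹ * (φ (v, 0) * (g * φ (a, 0) * g⁻¹)) * g := by group
        _ = _ := by rw [← e1]; group)
  obtain ⟨r, rfl⟩ := (h.mem g).1 (by simpa using h.fus hv e2)
  rw [md_cj h.toMdl] at e
  exact hp (congrArg Prod.snd (h.inj e)).symm

theorem coeff [Finite G] (a b c : V27) (hc : a ≠ 0 ∧ c ≠ 0 ∧ kap c ≠ 3 ∧
      ¬ (kap a = kap b ∧ kap a = kap (-c)) ∧ (kap a ≠ 3 ∨ kap c = 1)) :
    H31.classCoeff (φ (a, 0)) (φ (b, 0)) (φ (c, 0)) =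
      (Finset.univ.filter fun u => kap a = kap u ∧ kap b = kap (-u + c)).card := by
  classical
  obtain ⟨ha, hc, h3, hn, h4⟩ := hc
  have hA := md_add h.toMdl
  rw [← Fintype.card_subtype, ← Nat.card_eq_fintype_card, H31.classCoeff]
  symm
  refine Nat.card_congr (Equiv.ofBijective (fun u => ⟨(φ (u.1, 0), φ (-u.1 + c, 0)),
    h.conj_iff.2 u.2.1, h.conj_iff.2 u.2.2, by rw [hA.sub]; simp⟩) ⟨fun u v e => ?_, ?_⟩)
  · exact Subtype.ext (congrArg Prod.fst (h.inj (congrArg (fun p => p.1.1) e)))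
  rintro ⟨⟨y, w⟩, h1, h2, e⟩
  have cu : ∀ {u : V27} {z : G}, IsConj (φ (u, 0)) z → z ^ 3 = 1 := fun {u z} hz => by
    obtain ⟨g, rfl⟩ := isConj_iff.1 hz
    rw [conj_pow, md_cube h.toMdl]; group
  dsimp only at h1 h2 e
  obtain ⟨v, rfl⟩ : ∃ v, φ (v, 0) = y := by
    rcases tri3 (cu h1) (cu h2) (e ▸ md_cube h.toMdl c) with h5 | ⟨z, z1, z3, c1, c2⟩
    · refine absurd ⟨h.conj_iff.1 ((h1.trans h5.1).trans h2.symm), h.conj_iff.1 ?_⟩ hn
      rw [show φ (-c, 0) = (φ (c, 0))⁻¹ from hA.neg c, ← e]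
      exact h1.trans h5.2
    obtain ⟨v, rfl⟩ := h.inJ hc h3 z3 (by rw [← e, ← mul_assoc, c1, mul_assoc, c2, mul_assoc])
    obtain ⟨⟨u, p⟩, rfl⟩ := (h.mem y).1 (h.hC v (fun e => z1 (e ▸ hA.zero)) y c1.symm)
    suffices p = 0 from ⟨u, this ▸ rfl⟩
    rcases h4 with h4 | h4
    · exact h.nw ha h4 h1
    by_contra hp
    refine (t3 _ ((md_pw1 h.toMdl).1 (cu h1)) hp).2.2 c h4 ((md_pw1 h.toMdl).1 ?_)
    rw [h.hom, h.hom, ← e, ← inv_eq_sq (cu h1), inv_mul_cancel_left, cu h2]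
  obtain rfl : w = φ (-v + c, 0) := by rw [hA.sub, ← e]; simp
  exact ⟨⟨v, h.conj_iff.1 h1, h.conj_iff.1 h2⟩, rfl⟩

end Hy

end H58.N9
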