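import Cfsg.Agent.Lib.A9.H648
import Cfsg.Agent.Lib.A8.Syl
import Cfsg.Agent.Lib.A8.Code

/-! The normaliser of `3³` in the alternating group of degree nine. -/

set_option autoImplicit false
set_option synthInstance.maxSize 1024

namespace H58.N9

open Equiv Equiv.Perm H58.Cd H58.SE H53.Odd Subgroup

instance sm9 : Sm 9 := ⟨by norm_num⟩

abbrev P9 := Perm (Fin 9)

def e1 : P9 := swap 0 1 * swap 1 2
def e2 : P9 := swap 3 4 * swap 4 5
def e3 : P9 := swap 6 7 * swap 7 8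
def π0 : P9 := swap 0 3 * swap 3 6 * (swap 1 4 * swap 4 7) * (swap 2 5 * swap 5 8)
def a0 : P9 := swap 0 1 * swap 3 4
def b0 : P9 := swap 3 4 * swap 6 7
def t0 : P9 := swap 0 3 * swap 1 4 * swap 2 5 * swap 6 7
def s0 : P9 := t0 * a0
def r0 : P9 := b0 * s0

def sp (w : W) : P9 := a0 ^ w.1.1.val * b0 ^ w.1.2.val * π0 ^ w.2.1.val * s0 ^ w.2.2.val

def pm (p : M) : P9 := f27 e1 e2 e3 p.1 * sp p.2

def N0 : Subgroup P9 := closure {e1, π0, a0, t0}

def J0 : Subgroup P9 := closure {e1, e2, e3}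

theorem ce1 : code e1 = 36344967201 := by decide +kernel
theorem ce2 : code e2 = 36342940176 := by decide +kernel
theorem ce3 : code e3 = 28040245776 := by decide +kernel
theorem cπ : code π0 = 8867243331 := by decide +kernel
theorem ca0 : code a0 = 36344906241 := by decide +kernel
theorem cb0 : code b0 = 36093248016 := by decide +kernel
theorem cs0 : code s0 = 36089894196 := by decide +kernel
theorem c1 : code (1 : P9) = 36344967696 := by decide +kernel

theorem ah0 : AH (f27 e1 e2 e3) := AH_f27 (by decide +kernel) (by decide +kernel)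
  (by decide +kernel) (by decide +kernel) (by decide +kernel) (by decide +kernel)

theorem mdl0 : Mdl N0 mul pm := by
  have hs : ∀ w w', sp (mw w w') = sp w * sp w' := by
    simp only [sp, Cd.eq_iff (n := 9), code_mul, code_pow, ca0, cb0, cπ, cs0]
    decide +kernel
  have ha : ∀ w u, sp w * f27 e1 e2 e3 u * (sp w)⁻¹ = f27 e1 e2 e3 (act w u) := by
    simp only [mul_inv_eq_iff_eq_mul]
    simp only [sp, f27, Cd.eq_iff (n := 9), code_mul, code_pow, ca0, cb0, cπ, cs0, ce1, ce2, ce3]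
    decide +kernel
  refine mdl_sd ah0 (ah0.inj ?_) hs ha (fun w w' h => ?_) fun g => ⟨fun hg => ?_, ?_⟩
  · simp only [f27, Cd.eq_iff (n := 9), code_mul, code_pow, ce1, ce2, ce3, c1]
    decide +kernel
  · have h1 := h (1, 0, 0)
    have h2 := h (0, 1, 0)
    revert w w'
    intro w w' _
    revert w w'
    decide +kernel
  · refine mem_of_closure (P := fun g => ∃ u w, f27 e1 e2 e3 u * sp w = g)
      ⟨0, 0, by decide +kernel⟩ ?_ ?_ hg
    · rintro x (rfl | rfl | rfl | rfl)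
      · exact ⟨(1, 0, 0), 0, by decide +kernel⟩
      · exact ⟨0, (0, 1, 0), by decide +kernel⟩
      · exact ⟨0, ((1, 0), 0, 0), by decide +kernel⟩
      · exact ⟨0, ((1, 0), 0, 1), by decide +kernel⟩
    · rintro _ _ ⟨u, w, rfl⟩ ⟨u', w', rfl⟩
      refine ⟨u + act w u', mw w w', ?_⟩
      rw [ah0, hs, ← ha]; group
  · rintro ⟨u, w, rfl⟩
    have m : ∀ x ∈ ({e1, π0, a0, t0} : Set P9), x ∈ N0 := fun x hx => subset_closure hx
    have m1 := m e1 (by simp)
    have m2 := m π0 (by simp)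
    have m3 := m a0 (by simp)
    have cj : ∀ x ∈ N0, π0 * x * π0⁻¹ ∈ N0 := fun x hx => mul_mem (mul_mem m2 hx) (inv_mem m2)
    have m4 : e2 ∈ N0 := (show π0 * e1 * π0⁻¹ = e2 by decide +kernel) ▸ cj _ m1
    have m5 : e3 ∈ N0 := (show π0 * e2 * π0⁻¹ = e3 by decide +kernel) ▸ cj _ m4
    have m6 : b0 ∈ N0 := (show π0 * a0 * π0⁻¹ = b0 by decide +kernel) ▸ cj _ m3
    exact mul_mem (mul_mem (pow_mem m1 _) (mul_mem (pow_mem m4 _) (pow_mem m5 _)))
      (mul_mem (mul_mem (mul_mem (pow_mem m3 _) (pow_mem m6 _)) (pow_mem m2 _))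
        (pow_mem (mul_mem (m t0 (by simp)) m3) _))

theorem pm_mem (p : M) : pm p ∈ N0 := (mdl0.mem _).2 ⟨p, rfl⟩

theorem pm_J (u : V27) : pm (u, 0) = f27 e1 e2 e3 u := by simp [pm, sp]

theorem mem_J0 {q : P9} : q ∈ J0 ↔ ∃ u, pm (u, 0) = q := by
  refine ⟨fun hq => mem_of_closure (P := fun g => ∃ u, pm (u, 0) = g) ⟨0, md_one mdl0⟩ ?_ ?_ hq, ?_⟩
  · rintro x (rfl | rfl | rfl)
    · exact ⟨(1, 0, 0), by decide +kernel⟩
    · exact ⟨(0, 1, 0), by decide +kernel⟩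
    · exact ⟨(0, 0, 1), by decide +kernel⟩
  · rintro _ _ ⟨u, rfl⟩ ⟨v, rfl⟩
    exact ⟨u + v, md_add mdl0 u v⟩
  · rintro ⟨u, rfl⟩
    have m : ∀ x ∈ ({e1, e2, e3} : Set P9), x ∈ J0 := fun x hx => subset_closure hx
    rw [pm_J]
    exact mul_mem (pow_mem (m _ (by simp)) _)
      (mul_mem (pow_mem (m _ (by simp)) _) (pow_mem (m _ (by simp)) _))

theorem sign_N0 {q : P9} (hq : q ∈ N0) : sign q = 1 :=
  (show N0 ≤ alternatingGroup _ from (closure_le _).2 (by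
    rintro x (rfl | rfl | rfl | rfl) <;>
    · rw [SetLike.mem_coe, mem_alternatingGroup, sign_eq_one]; decide +kernel)) hq

theorem n0_key {q : P9} (h : q * e3 = e3 * q) : sign q = 1 →
    (∃ v, f27 e1 e2 e3 v = q * e1 * q⁻¹) → ∃ u, ∃ k : Fin 4, q = f27 e1 e2 e3 u * r0 ^ k.val := by
  simp only [r0, f27, sign_eq_one, Cd.eq_iff (n := 9), code_mul, code_inv, code_pow, ce1, ce2, ce3,
    cb0, cs0]
  refine fc 9 _ (code q) ⟨e3, q, ce3, rfl, h⟩ ?_
  decide +kernel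

theorem N0_eq : alternatingGroup (Fin 9) ⊓ normalizer (J0 : Set P9) = N0 := by
  have hN : N0 ≤ normalizer (J0 : Set P9) := fun q hq => mem_normalizer_of_le fun d hd => by
    obtain ⟨r, rfl⟩ := (mdl0.mem _).1 hq
    obtain ⟨u, rfl⟩ := mem_J0.1 hd
    exact mem_J0.2 ⟨_, (md_cj mdl0 r u).symm⟩
  refine le_antisymm (fun q ⟨h1, h2⟩ => ?_) fun q hq => ⟨sign_N0 hq, hN hq⟩
  obtain ⟨v, hv⟩ := mem_J0.1 ((mem_normalizer_iff.1 h2 _).1 (mem_J0.2 ⟨rep 1, rfl⟩))
  have h3 : kap v = 1 := by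
    have := card_support_conj (σ := q) (τ := pm (rep 1, 0))
    rw [← hv] at this
    revert this
    simp only [pm_J, f27, card_support, code_mul, code_pow, ce1, ce2, ce3]
    clear hv; revert v; decide +kernel
  obtain ⟨w, hw⟩ := t4 v
  have e := md_cj mdl0 (0, w) (rep 1)
  rw [h3] at hw
  rw [hw, hv, show pm (rep 1, 0) = e3 by decide +kernel] at e
  have hm := pm_mem (0, w)
  obtain ⟨u, k, e'⟩ := n0_key (q := (pm (0, w))⁻¹ * q) (by
      calc _ = (pm (0, w))⁻¹ * (q * e3 * q⁻¹) * q := by group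
        _ = _ := by rw [← e]; group)
    (by rw [map_mul, map_inv, sign_N0 hm, mem_alternatingGroup.1 h1]; rfl) (by
      obtain ⟨v, hv⟩ := mem_J0.1 ((mem_normalizer_iff.1 (mul_mem (inv_mem (hN hm)) h2) e1).1
        (subset_closure (by simp)))
      exact ⟨v, pm_J v ▸ hv⟩)
  rw [inv_mul_eq_iff_eq_mul] at e'
  rw [e', ← pm_J, show r0 = pm (col 11) by decide +kernel]
  exact mul_mem hm (mul_mem (pm_mem _) (pow_mem (pm_mem _) _))

variable {G : Type*} [Group G]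

theorem mdl_of {m : PH P9 G} (hm : m.S = N0) : Mdl m.range mul fun p => m.f (pm p) := by
  have h : ∀ p, pm p ∈ m.S := fun p => hm ▸ pm_mem p
  refine ⟨fun p q => by rw [mdl0.hom, m.mul (h p) (h q)],
    fun p q e => mdl0.inj (m.inj (h p) (h q) e), fun g => m.mem_range.trans ⟨?_, ?_⟩⟩
  · rintro ⟨q, hq, rfl⟩
    obtain ⟨p, rfl⟩ := (mdl0.mem q).1 (hm ▸ hq)
    exact ⟨p, rfl⟩
  · rintro ⟨p, rfl⟩
    exact ⟨_, h p, rfl⟩

theorem exists_model {H : Subgroup G} {K : Subgroup P9} (e : H ≃* K) :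
    ∃ m : PH P9 G, m.S = K ∧ m.range = H := by
  refine ⟨PH.ofHom K (H.subtype.comp e.symm.toMonoidHom)
    (H.subtype_injective.comp e.symm.injective), rfl, ?_⟩
  ext g
  rw [PH.mem_range]
  constructor
  · rintro ⟨p, hp, rfl⟩
    rw [PH.ofHom_f K _ _ hp]
    exact (e.symm ⟨p, hp⟩).2
  · intro hg
    exact ⟨e ⟨g, hg⟩, (e ⟨g, hg⟩).2, by rw [PH.ofHom_f _ _ _ (e ⟨g, hg⟩).2]; simp⟩

end H58.N9
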