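import Cfsg.Agent.Lib.Odd.Num

/-! Character patterns for arbitrary functionals, with a pruned search. -/

set_option autoImplicit false

namespace H58.N9

open Cfsg H53.Odd

/-- a zero diagonal entry in a non-zero row -/
def bad (k : ℕ) (R : ℕ → ℕ → ℤ) : Bool := !(al k fun i => R i i != 0 || al k fun j => R i j == 0)

/-- the pruned search -/
def chk2 (k : ℕ) (Ps : List (List (List ℤ))) :
    ℕ → List (List ℤ) → (ℕ → ℕ → ℤ) → List (List ℤ) → Bool
  | 0, _, _, _ => false
  | _ + 1, [], R, acc => !(al k fun i => al k fun j => R i j == 0) || Ps.contains acc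
  | n + 1, w :: C, R, acc =>
      (!(al k fun i => R i i == 0 || C.any fun u => g u i != 0) || chk2 k Ps n C R acc) &&
      (!(al k fun i => decide (0 ≤ sb R w i i)) || (bad k (sb R w) ||
        chk2 k Ps n (w :: C) (sb R w) (w :: acc)))

theorem bad_iff {k : ℕ} {R : ℕ → ℕ → ℤ} :
    bad k R = true ↔ ∃ i < k, R i i = 0 ∧ ∃ j < k, R i j ≠ 0 := by
  simp only [bad, Bool.not_eq_true', ← Bool.not_eq_true, al_eq, Bool.or_eq_true, bne_iff_ne,
    beq_iff_eq]
  push Not
  rfl

theorem chk_of {k : ℕ} {Ps : List (List (List ℤ))} : ∀ (m : ℕ) (C : List (List ℤ))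
    (R : ℕ → ℕ → ℤ) (acc : List (List ℤ)), (∀ w ∈ C, ∃ i < k, g w i ≠ 0) →
    (C.length : ℤ) + ∑ i ∈ Finset.range k, R i i < m → (∀ i < k, 0 ≤ R i i) →
    (bad k R = true ∨ ∃ n, chk2 k Ps n C R acc = true) → chk k Ps m C R acc = true := by
  intro m
  induction m with
  | zero =>
    intro C R acc _ h1 h2 _
    have := Finset.sum_nonneg fun i hi => h2 i (Finset.mem_range.1 hi)
    omega
  | succ m ih =>
    intro C R acc h0 h1 h2 h3
    cases C with
    | nil =>
      rcases h3 with h3 | ⟨_ | n, h3⟩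
      · obtain ⟨i, hi, -, j, hj, h⟩ := bad_iff.1 h3
        simp only [chk, Bool.or_eq_true, Bool.not_eq_true', ← Bool.not_eq_true, al_eq, beq_iff_eq]
        exact Or.inl fun e => h (e i hi j hj)
      · simp [chk2] at h3
      · exact h3
    | cons w C =>
      have a1 := ih C R acc (fun u hu => h0 u (List.mem_cons_of_mem _ hu))
        (by simp only [List.length_cons] at h1; omega) h2
      have a2 : (∀ i < k, 0 ≤ sb R w i i) → _ → chk k Ps m (w :: C) (sb R w) (w :: acc) = true :=
        ih (w :: C) (sb R w) (w :: acc) h0 (by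
          obtain ⟨i, hi, h⟩ := h0 w List.mem_cons_self
          have := Finset.single_le_sum (f := fun i => g w i * g w i)
            (fun i _ => mul_self_nonneg _) (Finset.mem_range.2 hi)
          have := mul_self_pos.2 h
          simp only [sb, Finset.sum_sub_distrib]
          omega)
      simp only [chk, Bool.and_eq_true, Bool.or_eq_true, Bool.not_eq_true', ← Bool.not_eq_true,
        al_eq, decide_eq_true_eq]
      rcases h3 with h3 | ⟨_ | n, h3⟩
      · refine ⟨Or.inr (a1 (Or.inl h3)), or_iff_not_imp_left.2 fun e => a2 (not_not.1 e) (Or.inl ?_)⟩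
        obtain ⟨i, hi, e1, j, hj, e2⟩ := bad_iff.1 h3
        have e3 := not_not.1 e i hi
        simp only [sb, e1] at e3
        have e4 : g w i = 0 := by nlinarith
        exact bad_iff.2 ⟨i, hi, by simp [sb, e1, e4], j, hj, by simpa [sb, e4] using e2⟩
      · simp [chk2] at h3
      · simp only [chk2, Bool.and_eq_true, Bool.or_eq_true, Bool.not_eq_true', ← Bool.not_eq_true,
          al_eq, decide_eq_true_eq] at h3
        exact ⟨h3.1.imp_right fun e => a1 (Or.inr ⟨n, e⟩), or_iff_not_imp_left.2 fun e =>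
          a2 (not_not.1 e) ((h3.2.resolve_left e).imp_right fun e => ⟨n, e⟩)⟩

/-- the data of the search -/
def valChk3 (K : ℕ) (z t : List ℤ) (c e R : List (List ℤ)) (D : ℤ) (As : List (List (List ℤ)))
    (B n : ℕ) (C : List (List ℤ)) (Ps Qs : List (List (List ℤ))) : Bool :=
  D != 0 && As.length == K && e.length == K &&
  (al K fun i => al K fun j => sm K (fun k => gm c i k * gm c j k * g z k) ==
    sm K (fun k => gm c i k * g t k) * sm K (fun k => gm c j k * g t k) + D ^ 2 * gm R i j) &&
  (al K fun k => al K fun l => sm K (fun i => gm e k i * gm c i l) == if k = l then D else 0) &&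
  rootChk (gm R) B C As [] && chk2 K Ps n C (gm R) [] &&
  Ps.all (fun P => P.all (·.length == K) && Qs.contains (P.map (mv e))) &&
  C.all (fun w => !(al K fun i => g w i == 0)) && (al K fun i => decide (0 ≤ gm R i i))

variable {G : Type*} [Group G] [Finite G]

theorem exists_pat {K : ℕ} (Y : ℕ → (G → ℂ) → ℂ) (hneg : ∀ k χ, Y k (-χ) = - Y k χ) (z t : List ℤ)
    (hg : ∀ k < K, ∀ l < K, ∑ χ : IrrCharacter G, Y k χ * Y l χ = if k = l then (g z k : ℂ) else 0)
    (ht : ∀ k < K, Y k (fun _ => 1) = g t k) (c : List (List ℤ)) (D : ℤ)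
    (hint : ∀ χ : IrrCharacter G, ∀ i < K, ∃ m : ℤ,
      ∑ k ∈ Finset.range K, (gm c i k : ℂ) * Y k χ = D * m)
    (e R : List (List ℤ)) (As : List (List (List ℤ)))
    (B n : ℕ) (C : List (List ℤ)) (Ps Qs : List (List (List ℤ)))
    (hc : valChk3 K z t c e R D As B n C Ps Qs = true) : ∃ Q ∈ Qs, ∃ ds : List ℤ,
      (∀ P : List ℤ → ℤ → Prop, (∀ α w d, SI α → (∀ k < K, Y k α = (g w k : ℂ)) → α 1 = (d : ℤ) →
        P w d) → List.Forall₂ P Q ds) ∧ 1 + sqS ds ≤ Nat.card G ∧
      ∀ (F : (G → ℂ) → ℂ) (F' : List ℤ → ℤ → ℂ), (∀ χ, F (-χ) = F χ) →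
        (∀ α w d, (∀ k < K, Y k α = (g w k : ℂ)) → α 1 = (d : ℤ) → F α = F' w d) →
        (∀ χ : IrrCharacter G, (∀ k < K, Y k χ = 0) → F χ = 0) →
        ∑ χ : IrrCharacter G, F χ = F (fun _ => 1) + (List.zipWith F' Q ds).sum := by
  simp only [valChk3, Bool.and_eq_true, bne_iff_ne, ne_eq, beq_iff_eq, al_eq, List.all_eq_true,
    List.contains_iff_mem, sm_eq, Bool.not_eq_true', ← Bool.not_eq_true, decide_eq_true_eq] at hc
  obtain ⟨⟨⟨⟨⟨⟨⟨⟨⟨hD, hA⟩, he⟩, hR⟩, hi⟩, h1⟩, h2⟩, h3⟩, h5⟩, h6⟩ := hc
  have h2 := chk_of (((C.length : ℤ) + ∑ i ∈ Finset.range K, gm R i i).toNat + 1) C (gm R) []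
    (fun w hw => by have := h5 w hw; push Not at this; exact this) (by omega) h6 (Or.inr ⟨n, h2⟩)
  have hD' : (D : ℂ) ≠ 0 := by exact_mod_cast hD
  have gram : ∀ a b : ℕ → ℂ,
      ∑ χ : IrrCharacter G, (∑ k ∈ Finset.range K, a k * Y k χ) *
      (∑ k ∈ Finset.range K, b k * Y k χ) = ∑ k ∈ Finset.range K, a k * b k * g z k := by
    intro a b
    simp only [Finset.sum_mul_sum]
    rw [Finset.sum_comm]
    refine Finset.sum_congr rfl fun k hk => ?_
    rw [Finset.sum_comm, Finset.sum_eq_single k]
    · have := hg k (Finset.mem_range.1 hk) k (Finset.mem_range.1 hk)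
      rw [if_pos rfl] at this
      rw [← this, Finset.mul_sum]
      exact Finset.sum_congr rfl fun χ _ => by ring
    · intro l hl hlk
      have := hg k (Finset.mem_range.1 hk) l (Finset.mem_range.1 hl)
      rw [if_neg hlk.symm] at this
      rw [← mul_zero (a k * b l), ← this, Finset.mul_sum]
      exact Finset.sum_congr rfl fun χ _ => by ring
    · exact fun h => absurd hk h
  let v : (G → ℂ) → ℕ → ℂ := fun χ i => (∑ k ∈ Finset.range K, (gm c i k : ℂ) * Y k χ) / D
  have back : ∀ χ : G → ℂ, ∀ k < K,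
      Y k χ = ∑ i ∈ Finset.range K, (gm e k i : ℂ) * v χ i := by
    intro χ k hk
    simp only [v, ← mul_div_assoc, Finset.mul_sum]
    rw [← Finset.sum_div, Finset.sum_comm, eq_div_iff hD', Finset.sum_eq_single k]
    · have := hi k hk k hk
      rw [if_pos rfl] at this
      rw [← this]
      push_cast
      rw [Finset.mul_sum]
      exact Finset.sum_congr rfl fun i _ => by ring
    · intro l hl hlk
      have := hi k hk l (Finset.mem_range.1 hl)
      rw [if_neg hlk.symm] at this
      have this' : ∑ i ∈ Finset.range K, (gm e k i : ℂ) * gm c i l = 0 := by exact_mod_cast this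
      rw [← zero_mul (Y l χ), ← this', Finset.sum_mul]
      exact Finset.sum_congr rfl fun i _ => by ring
    · exact fun h => absurd (Finset.mem_range.2 hk) h
  have triv : ∀ i, ∑ k ∈ Finset.range K, (gm c i k : ℂ) * Y k (fun _ => 1) =
      ∑ k ∈ Finset.range K, (gm c i k : ℂ) * g t k := fun i =>
    Finset.sum_congr rfl fun k hk => by rw [ht k (Finset.mem_range.1 hk)]
  obtain ⟨L, ⟨P, hP, hL⟩, hS, hF, hb⟩ := exists_pattern (G := G) K v
    (fun χ i => by simp [v, neg_div, hneg])
    (fun χ i hi => by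
      obtain ⟨m, hm⟩ := hint χ i hi
      exact ⟨m, by simp only [v]; rw [hm]; field_simp⟩) (gm R)
    (fun i hi j hj => by
      simp only [v, div_mul_div_comm, triv]
      rw [← Finset.sum_div, gram]
      have := hR i hi j hj
      have this' : ∑ k ∈ Finset.range K, (gm c i k : ℂ) * gm c j k * g z k =
          (∑ k ∈ Finset.range K, (gm c i k : ℂ) * g t k) *
            (∑ k ∈ Finset.range K, (gm c j k : ℂ) * g t k) +
            D ^ 2 * gm R i j := by exact_mod_cast this
      rw [this']; field_simp) hA h1 h2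
  have val : List.Forall₂ (fun (α : G → ℂ) w => ∀ k < K, Y k α = (g w k : ℂ)) L (P.map (mv e)) := by
    rw [List.forall₂_map_right_iff]
    have h4 := (h3 P hP).1
    clear hP hS hF hb
    induction hL with
    | nil => exact List.Forall₂.nil
    | @cons α w L P a _ ih =>
      refine List.Forall₂.cons (fun k hk => ?_) (ih fun w hw => h4 w (List.mem_cons_of_mem _ hw))
      rw [g_mv e w (he ▸ hk), h4 w List.mem_cons_self, sm_eq, back α k hk]
      push_cast
      exact Finset.sum_congr rfl fun i hi => by rw [a i (Finset.mem_range.1 hi)]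
  obtain ⟨ds, deg⟩ := exists_degs L hS
  refine ⟨_, (h3 P hP).2, ds, fun P' hP' => ?_, ?_, fun F F' a b c => ?_⟩
  · clear hF hL hb
    generalize P.map (mv e) = Q at val
    induction val generalizing ds with
    | nil => cases deg; exact List.Forall₂.nil
    | cons a _ ih =>
      cases deg with
      | cons b deg =>
        exact List.Forall₂.cons (hP' _ _ _ (hS _ List.mem_cons_self) a b)
          (ih (fun β hβ => hS β (List.mem_cons_of_mem _ hβ)) _ deg)
  · have e : (L.map fun α => (α 1).re ^ 2).sum = (sqS ds : ℝ) := by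
      clear * - deg
      induction deg with
      | nil => simp [sqS]
      | cons a _ ih =>
        simp only [sqS, List.map_cons, List.sum_cons, Int.cast_add, Int.cast_pow] at ih ⊢
        rw [a, Complex.intCast_re, ih]
    rw [e] at hb
    exact_mod_cast hb
  · rw [hF F a fun χ hχ => c χ fun k hk => by
      rw [back χ k hk]
      exact Finset.sum_eq_zero fun i hi => by rw [hχ i (Finset.mem_range.1 hi), mul_zero]]
    congr 1
    clear hF hL hS hb
    generalize P.map (mv e) = Q at val
    induction val generalizing ds with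
    | nil => simp
    | cons a _ ih =>
      cases deg with
      | cons d deg => simp only [List.map_cons, List.sum_cons, List.zipWith_cons_cons, ih _ deg,
          b _ _ _ a d]

end H58.N9
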