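import Cfsg.Agent.Lib.A9.Mod

/-! A group containing `3³ : S₄` together with the centralisers of the elements of `3³`. -/

set_option autoImplicit false

namespace H58.N9

open Cfsg H53.Odd Subgroup
open scoped ComplexConjugate

def cc : List (List ℤ) :=
    [[0, 0, 0, 0, 0, 0, 12, -12, 0], [0, 0, 0, 0, 0, 0, 0, 0, 18], [-3, -9, 0, 0, 0, 0, 12, 0, 9],
      [-1, 9, 0, -4, 0, -4, 0, 0, -9], [-3, 9, 9, 0, 0, 0, 12, 0, 0], [0, 0, 0, 6, 18, 0, 12, 0,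
      0], [3, 9, 0, 0, 0, 0, 12, 12, -9], [3, -9, 9, 0, 0, 0, -12, 0, 0], [0, 0, 0, 6, -18, 0, 12,
      0, 0]]

def Qs : List (List (List ℤ)) :=
    [[[0, 0, 0, 3, -1, -3, 0, 0, 0], [4, 0, 0, -2, 0, 1, 1, 1, 0], [4, 0, 0, 1, -1, -2, 1, 1, 0],
      [-3, 1, 2, 0, 0, 3, 0, 0, 0], [0, 0, 0, -6, 0, -3, 0, 0, 0], [-3, 1, 2, 0, 0, -6, 0, 0, 0],
      [-5, -1, -2, 1, 1, -2, 1, 1, 0], [0, 2, -2, 0, 0, 0, 0, 0, 2], [0, -2, 2, 0, 0, 0, 0, 0, 2],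
      [4, 0, 0, 1, 1, -2, 1, -2, 0], [-4, 0, 0, -1, -1, 2, 2, -1, 0]], [[0, 0, 0, 3, -1, -3, 0, 0,
      0], [3, -1, 2, 0, 0, -3, 0, 0, 0], [1, 1, -2, 1, -1, 1, 1, 1, 0], [4, 0, 0, -2, 0, 1, 1, 1,
      0], [0, 0, 0, 3, 1, -3, 0, 0, 0], [-3, 1, 2, 0, 0, 3, 0, 0, 0], [-3, 1, -2, -3, 1, -3, 0, 0,
      0], [-3, 1, 2, -3, -1, -3, 0, 0, 0], [-2, -2, 0, -2, 0, -2, 1, 1, 0], [3, 1, 0, 0, 0, -3, 0,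
      0, 2], [-3, -1, 0, 0, 0, 3, 0, 0, 2], [4, 0, 0, -2, 0, 1, 1, -2, 0], [-4, 0, 0, 2, 0, -1, 2,
      -1, 0]], [[3, -1, 2, -3, 1, 0, 0, 0, 0], [1, 1, -2, -2, 0, 4, 1, 1, 0], [4, 0, 0, 1, -1, -2,
      1, 1, 0], [0, 0, 0, 3, 1, -3, 0, 0, 0], [-3, 1, 2, 0, 0, 3, 0, 0, 0], [-3, 1, -2, -3, 1, -3,
      0, 0, 0], [-3, 1, 2, -3, -1, -3, 0, 0, 0], [-2, -2, 0, -2, 0, -2, 1, 1, 0], [3, 1, 0, 0, 0,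
      -3, 0, 0, 2], [-3, -1, 0, 0, 0, 3, 0, 0, 2], [4, 0, 0, -2, 0, 1, 1, -2, 0], [-4, 0, 0, 2, 0,
      -1, 2, -1, 0]], [[0, 0, 0, 3, -1, -3, 0, 0, 0], [4, 0, 0, -2, 0, 1, 1, 1, 0], [4, 0, 0, 1,
      -1, -2, 1, 1, 0], [0, 0, 0, 3, 1, -3, 0, 0, 0], [-3, 1, 2, 0, 0, 3, 0, 0, 0], [0, 0, 0, -3,
      1, -6, 0, 0, 0], [-3, 1, 2, -3, -1, -3, 0, 0, 0], [-5, -1, -2, -2, 0, 1, 1, 1, 0], [0, 2,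
      -2, 0, 0, 0, 0, 0, 2], [0, -2, 2, 0, 0, 0, 0, 0, 2], [4, 0, 0, -2, 0, 1, 1, -2, 0], [-4, 0,
      0, 2, 0, -1, 2, -1, 0]]]

theorem search : valChk3 9 [108, 12, 24, 54, 6, 81, 9, 9, 8] [1, 1, 2, 1, 1, 1, 1, 1, 0] cc
    [[4, 3, -2, 0, -3, 0, 4, 3, 0], [0, 1, -2, 0, 1, 0, 0, -1, 0], [0, 0, 0, 0, 2, 0, 0, 2, 0],
      [-2, 0, -2, 0, 0, 3, -2, 0, 3], [0, 0, 0, 0, 0, 1, 0, 0, -1], [1, -3, -2, -9, 3, -3, 1, -3,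
      -3], [1, 0, 1, 0, 0, 0, 1, 0, 0], [-2, 0, 1, 0, 0, 0, 1, 0, 0], [0, 2, 0, 0, 0, 0, 0, 0, 0]]
    [[2, 0, 1, 0, 1, 1, 0, -1, 1], [0, 2, 1, -1, 0, 0, -1, 0, 0], [1, 1, 3, -1, 1, 1, -1, -1, 1],
      [0, -1, -1, 3, 1, -1, 1, -1, -1], [1, 0, 1, 1, 3, 0, 0, -1, 1], [1, 0, 1, -1, 0, 3, 0, -1,
      1], [0, -1, -1, 1, 0, 0, 3, -1, 1], [-1, 0, -1, -1, -1, -1, -1, 4, -1], [1, 0, 1, -1, 1, 1,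
      1, -1, 4]] 36
    [[[1]], [[1, 0], [0, 1]], [[5, 1, -2], [1, 5, -2], [-2, -2, 4]], [[12, 2, -5, -1], [2, 13, -4,
      3], [-5, -4, 10, 2], [-1, 3, 2, 8]], [[24, 4, -7, 1, -6], [4, 24, -7, 6, -1], [-7, -7, 21,
      7, -7], [1, 6, 7, 19, -9], [-6, -1, -7, -9, 19]], [[56, 4, -11, -3, -14, -16], [4, 51, -16,
      15, -1, 9], [-11, -16, 44, 12, -15, -7], [-3, 15, 12, 42, -17, 11], [-14, -1, -15, -17, 39,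
      4], [-16, 9, -7, 11, 4, 35]], [[128, 8, -26, -6, -32, -36, -4], [8, 122, -32, 30, -2, 18,
      20], [-26, -32, 104, 24, -34, -18, 16], [-6, 30, 24, 99, -39, 27, -15], [-32, -2, -34, -39,
      89, 9, 1], [-36, 18, -18, 27, 9, 81, -9], [-4, 20, 16, -15, 1, -9, 71]], [[48, 4, -8, 0,
      -12, -12, 0, 4], [4, 47, -9, 15, -1, 9, 10, 7], [-8, -9, 43, 15, -13, -3, 10, 11], [0, 15,
      15, 45, -15, 15, 0, 15], [-12, -1, -13, -15, 33, 3, 0, -1], [-12, 9, -3, 15, 3, 33, 0, 9],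
      [0, 10, 10, 0, 0, 0, 30, 10], [4, 7, 11, 15, -1, 9, 10, 27]], [[64, 4, -10, -6, -12, -16, 4,
      4, -8], [4, 62, -12, 24, -4, 12, 10, 10, 6], [-10, -12, 56, 18, -16, -4, 14, 14, -2], [-6,
      24, 18, 81, -33, 21, -15, 24, 30], [-12, -4, -16, -33, 51, 3, 9, -4, -18], [-16, 12, -4, 21,
      3, 43, -1, 12, 2], [4, 10, 14, -15, 9, -1, 49, 10, -20], [4, 10, 14, 24, -4, 12, 10, 36, 6],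
      [-8, 6, -2, 30, -18, 2, -20, 6, 40]]] 2 63
    [[1, 0, 1, 0, 1, 1, 0, -1, 1], [1, 0, 1, 0, 1, 0, 0, -1, 1], [1, 0, 0, 0, 0, 1, 0, 0, 0], [1,
      0, 0, 0, 0, 0, 0, 0, 0], [0, 1, 1, -1, 0, 0, -1, 1, 0], [0, 1, 1, -1, 0, 0, -1, 0, 0], [0,
      1, 0, 0, 0, 0, 0, 0, 0], [0, 1, 0, 0, 0, 0, 0, -1, 0], [0, 0, 1, 0, 1, 0, 0, 0, 1], [0, 0,
      1, 0, 1, 0, 0, 0, 0], [0, 0, 1, 0, 1, 0, -1, 0, 0], [0, 0, 1, 0, 0, 1, 0, -1, 0], [0, 0, 1,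
      0, 0, 0, 0, 0, 0], [0, 0, 1, 0, 0, 0, 0, -1, 0], [0, 0, 1, 0, 0, 0, -1, 0, 0], [0, 0, 1, -1,
      0, 1, 0, 0, 1], [0, 0, 1, -1, 0, 0, 0, 0, 1], [0, 0, 0, 1, 1, 0, 0, 0, 0], [0, 0, 0, 1, 1,
      0, 0, -1, 0], [0, 0, 0, 1, 1, -1, 0, 0, 0], [0, 0, 0, 1, 0, 0, 1, -1, 0], [0, 0, 0, 1, 0, 0,
      0, 0, -1], [0, 0, 0, 1, 0, 0, 0, -1, 0], [0, 0, 0, 1, 0, 0, 0, -1, -1], [0, 0, 0, 1, 0, -1,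
      0, 0, -1], [0, 0, 0, 0, 1, 0, 0, 0, 1], [0, 0, 0, 0, 1, 0, 0, 0, 0], [0, 0, 0, 0, 0, 1, 1,
      -1, 1], [0, 0, 0, 0, 0, 1, 0, 0, 0], [0, 0, 0, 0, 0, 1, 0, -1, 0], [0, 0, 0, 0, 0, 0, 1, 0,
      1], [0, 0, 0, 0, 0, 0, 1, 0, 0], [0, 0, 0, 0, 0, 0, 1, -1, 1], [0, 0, 0, 0, 0, 0, 1, -1, 0],
      [0, 0, 0, 0, 0, 0, 0, 1, 0], [0, 0, 0, 0, 0, 0, 0, 1, -1], [0, 0, 0, 0, 0, 0, 0, 0, 1]]
    [[[0, 0, 0, 0, 0, 0, 0, 0, 1], [0, 0, 0, 0, 0, 0, 1, 0, 0], [0, 0, 0, 0, 0, 0, 1, 0, 1], [0,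
      0, 0, 0, 1, 0, 0, 0, 0], [0, 0, 0, 1, 0, -1, 0, 0, -1], [0, 0, 0, 1, 1, 0, 0, 0, 0], [0, 0,
      1, 0, 0, 1, 0, -1, 0], [0, 1, 0, 0, 0, 0, 0, -1, 0], [0, 1, 1, -1, 0, 0, -1, 1, 0], [1, 0,
      0, 0, 0, 1, 0, 0, 0], [1, 0, 1, 0, 1, 0, 0, -1, 1]], [[0, 0, 0, 0, 0, 0, 0, 0, 1], [0, 0, 0,
      0, 0, 0, 0, 1, 0], [0, 0, 0, 0, 0, 0, 1, -1, 1], [0, 0, 0, 0, 0, 0, 1, 0, 0], [0, 0, 0, 0,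
      0, 1, 0, 0, 0], [0, 0, 0, 0, 1, 0, 0, 0, 0], [0, 0, 0, 1, 0, 0, 0, -1, -1], [0, 0, 0, 1, 1,
      -1, 0, 0, 0], [0, 0, 1, 0, 0, 0, 0, 0, 0], [0, 1, 0, 0, 0, 0, 0, 0, 0], [0, 1, 1, -1, 0, 0,
      -1, 0, 0], [1, 0, 0, 0, 0, 0, 0, 0, 0], [1, 0, 1, 0, 1, 1, 0, -1, 1]], [[0, 0, 0, 0, 0, 0,
      0, 1, -1], [0, 0, 0, 0, 0, 0, 1, -1, 0], [0, 0, 0, 0, 0, 0, 1, 0, 1], [0, 0, 0, 0, 0, 1, 0,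
      0, 0], [0, 0, 0, 0, 1, 0, 0, 0, 0], [0, 0, 0, 1, 0, 0, 0, -1, -1], [0, 0, 0, 1, 1, -1, 0, 0,
      0], [0, 0, 1, 0, 0, 0, 0, 0, 0], [0, 1, 0, 0, 0, 0, 0, 0, 0], [0, 1, 1, -1, 0, 0, -1, 0, 0],
      [1, 0, 0, 0, 0, 0, 0, 0, 0], [1, 0, 1, 0, 1, 1, 0, -1, 1]], [[0, 0, 0, 0, 0, 0, 0, 0, 1],
      [0, 0, 0, 0, 0, 0, 1, 0, 0], [0, 0, 0, 0, 0, 0, 1, 0, 1], [0, 0, 0, 0, 0, 1, 0, 0, 0], [0,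
      0, 0, 0, 1, 0, 0, 0, 0], [0, 0, 0, 1, 0, 0, 0, 0, -1], [0, 0, 0, 1, 1, -1, 0, 0, 0], [0, 0,
      1, 0, 0, 0, 0, -1, 0], [0, 1, 0, 0, 0, 0, 0, -1, 0], [0, 1, 1, -1, 0, 0, -1, 1, 0], [1, 0,
      0, 0, 0, 0, 0, 0, 0], [1, 0, 1, 0, 1, 1, 0, -1, 1]]] Qs = true := by decide +kernel

theorem num {g p q e0 e1 : ℤ} (hg : 0 < g) (I2 : 6 * g * (p + q) = p * q)
    (I3 : 8 * g * (e1 + 2 * e0) = 3 * e0 * e1) (hs : p + q = e0 + 2 * e1) (c1 : 27 ∣ p - 12)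
    (c2 : 27 ∣ q - 12) (c3 : 27 ∣ e1 - 8)
    (hb : p ^ 2 + q ^ 2 + e0 ^ 2 + 2 * e1 ^ 2 < 648 * g) : g = 1 := by
  by_contra h1
  have h2 : 2 ≤ g := by omega
  obtain ⟨s, hs'⟩ : ∃ s, s = p + q := ⟨_, rfl⟩
  have e1' : p ^ 2 + q ^ 2 = s ^ 2 - 12 * g * s := by rw [hs']; linear_combination 2 * I2
  have e2 : 24 * g * s ≤ s ^ 2 := by rw [hs']; nlinarith [sq_nonneg (p - q)]
  obtain rfl : e0 = s - 2 * e1 := by omega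
  have hs3 : s = -3 ∨ s = -30 := by
    rcases lt_or_ge 0 s with h | h
    · have h3 : 24 * g ≤ s := by nlinarith
      have h4 : 51 ≤ s := by omega
      have h5 : g = 2 := by nlinarith [sq_nonneg (s - 2 * e1), sq_nonneg e1]
      subst h5
      nlinarith [sq_nonneg (s - 2 * e1), sq_nonneg e1]
    · have h3 : -54 < s := by nlinarith [sq_nonneg (s - 2 * e1), sq_nonneg e1, sq_nonneg s]
      omega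
  rcases lt_or_ge 0 e1 with h | h
  · have h3 : 4 * g ≤ e1 := by rcases hs3 with rfl | rfl <;> nlinarith
    have h4 : e1 < 27 := by rcases hs3 with rfl | rfl <;> nlinarith
    obtain rfl : e1 = 8 := by omega
    obtain rfl : g = 2 := by omega
    omega
  · have h3 : e1 ≤ -19 := by omega
    have h4 : 2 * s < 3 * e1 := by rcases hs3 with rfl | rfl <;> nlinarith
    obtain rfl : e1 = -19 := by omega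
    obtain rfl : s = -30 := by omega
    obtain rfl : g = 19 := by omega
    obtain rfl : q = -30 - p := by omega
    have h5 : -100 < p := by nlinarith
    have h6 : p < 100 := by nlinarith
    interval_cases p <;> omega

end H58.N9
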