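import Cfsg.Agent.Lib.A9.Pat

/-! A model of the group `3³ : S₄` . -/

set_option autoImplicit false

namespace H58.N9

open Cfsg H53.Odd Subgroup

/-- the complement -/
abbrev W := (ZMod 2 × ZMod 2) × ZMod 3 × ZMod 2

/-- the group -/
abbrev M := V27 × W

def sg (i : ZMod 2) (x : ZMod 3) : ZMod 3 := if i = 0 then x else -x

def r3 (i : ZMod 3) (v : ZMod 2 × ZMod 2) : ZMod 2 × ZMod 2 :=
  if i = 0 then v else if i = 1 then (v.2, v.1 + v.2) else (v.1 + v.2, v.1)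

def mw (w w' : W) : W :=
  (w.1 + r3 w.2.1 (if w.2.2 = 0 then w'.1 else (w'.1.1 + w'.1.2, w'.1.2)),
    w.2.1 + sg w.2.2 w'.2.1, w.2.2 + w'.2.2)

def rot (i : ZMod 3) (u : V27) : V27 :=
  if i = 0 then u else if i = 1 then (u.2.2, u.1, u.2.1) else (u.2.1, u.2.2, u.1)

def dg (v : ZMod 2 × ZMod 2) (u : V27) : V27 := (sg v.1 u.1, sg (v.1 + v.2) u.2.1, sg v.2 u.2.2)

def act (w : W) (u : V27) : V27 :=
  dg w.1 (rot w.2.1 (if w.2.2 = 0 then u else (-u.2.1, -u.1, -u.2.2)))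

def mul : M → M → M := sdMul act mw

def pw (p : M) (n : ℕ) : M := Nat.rec 0 (fun _ r => mul r p) n

/-- the weight -/
def kap (u : V27) : ℕ :=
  (if u.1 = 0 then 0 else 1) + (if u.2.1 = 0 then 0 else 1) + (if u.2.2 = 0 then 0 else 1)

def rep (k : ℕ) : V27 := [0, (0, 0, 1), (1, 2, 0), (1, 1, 1)].getD k 0

/-- class representatives -/
def col (k : ℕ) : M := [(rep 1, 0), (rep 1, (1, 0), 0, 0), (rep 1, (0, 1), 0, 1),
  (rep 2, 0), (rep 2, 0, 0, 1), (rep 3, 0), ((1, 0, 0), 0, 1, 0), ((2, 0, 0), 0, 1, 0),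
  ((0, 0, 2), (0, 1), 0, 1), 0, (0, (1, 0), 0, 0), (0, (0, 1), 0, 1), (0, 0, 0, 1)].getD k 0

theorem t1 : ∀ k < 9, ∀ l < 9, (Finset.univ.filter fun r => mul (col l) (mul r (col k)) = r).card =
    if k = l then [108, 12, 12, 54, 6, 81, 9, 9, 12].getD k 0 else 0 := by decide +kernel

theorem t2 : ∀ p : M, pw p 3 = 0 → p.2 ≠ 0 →
    (Finset.univ.filter fun r => mul r p = mul p r).card ≤ 9 := by decide +kernel

set_option synthInstance.maxSize 1024 in
theorem t3 : ∀ p : M, pw p 3 = 0 → p.2 ≠ 0 → (∃ v ≠ 0, mul p (v, 0) = mul (v, 0) p) ∧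
    (∀ v ≠ 0, mul p (v, 0) = mul (v, 0) p → kap v = 3) ∧
      ∀ v, kap v = 1 → pw (mul (mul p p) (v, 0)) 3 ≠ 0 := by decide +kernel

theorem t4 : ∀ u, ∃ w, act w (rep (kap u)) = u := by decide +kernel

theorem t5 : ∀ w u, kap (act w u) = kap u := by decide +kernel

theorem mul_J (u v : V27) : mul (u, 0) (v, 0) = (u + v, 0) := by revert u v; decide +kernel

theorem mul_cj (r : M) (u : V27) : mul r (u, 0) = mul (act r.2 u, 0) r := by
  have h1 : ∀ w, mw w 0 = w ∧ mw 0 w = w := by decide +kernel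
  have h2 : ∀ u, act 0 u = u := by decide +kernel
  simp only [mul, sdMul, h1, h2, add_comm]

end H58.N9
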